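import Cfsg.Prelude.Def_LocalEven
import Cfsg.Agent.Lib.Hall.Solvable
import Cfsg.Agent.Lib.CN.Basic
import Cfsg.Agent.Lib.PGroups.UniqueSubgroup
import Cfsg.Agent.Lib.PLocal.QuaternionSection
import Cfsg.Agent.Lib.Involutions.Basic

/-!
Groups in which the subgroups of order prime to `p` are nilpotent.
-/

set_option autoImplicit false
set_option linter.all false

namespace Cfsg.Agent.Coprime.OddInvariant.PPrimeNilpotent

open Subgroup Cfsg

universe u

variable {G : Type u} [Group G]

/-- Every subgroup of order prime to `p` is nilpotent. -/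
def Hyp (p : ℕ) (G : Type u) [Group G] : Prop :=
  ∀ H : Subgroup G, (Nat.card H).Coprime p → Group.IsNilpotent H

theorem Hyp.subgroup {p : ℕ} (h : Hyp p G) (K : Subgroup G) : Hyp p K := by
  intro H hH
  haveI := h (H.map K.subtype) (by rwa [card_map_of_injective K.subtype_injective])
  exact Group.nilpotent_of_mulEquiv (equivMapOfInjective H _ K.subtype_injective).symm

/-- The hypothesis passes to the quotient by a normal subgroup of prime power order. -/
theorem Hyp.quotient [Finite G] {p r : ℕ} [Fact p.Prime] [Fact r.Prime] (h : Hyp p G) (N : Subgroup G)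
    [N.Normal] (hN : IsPGroup r N) : Hyp p (G ⧸ N) := by
  intro H hH
  set L := H.comap (QuotientGroup.mk' N)
  let f := (QuotientGroup.mk' N).subgroupComap H
  have hs : Function.Surjective f :=
    (QuotientGroup.mk' N).subgroupComap_surjective_of_surjective H (QuotientGroup.mk'_surjective N)
  have hker : Nat.card f.ker = Nat.card N := by
    have h1 : f.ker = N.subgroupOf L := by
      ext x
      rw [MonoidHom.mem_ker, mem_subgroupOf, ← QuotientGroup.eq_one_iff (N := N) (x : G)]
      exact Subtype.ext_iff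
    rw [h1]
    have hNL : N ≤ L := fun x hx => show (x : G ⧸ N) ∈ H by
      rw [(QuotientGroup.eq_one_iff x).2 hx]; exact one_mem H
    exact Nat.card_congr (subgroupOfEquivOfLe hNL).toEquiv
  obtain ⟨k, hk⟩ := IsPGroup.iff_card.1 hN
  by_cases hrp : r = p
  · subst hrp
    have hidx : f.ker.index = Nat.card H := by
      rw [index_ker, MonoidHom.range_eq_top.2 hs, card_top]
    obtain ⟨C, hC⟩ := exists_right_complement'_of_coprime (N := f.ker) (by
      rw [hker, hidx, hk]; exact (Nat.Coprime.pow_right k hH).symm)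
    have hCcard : Nat.card C = Nat.card H := by rw [← hidx, hC.symm.index_eq_card]
    haveI := h (C.map L.subtype) (by rwa [card_map_of_injective L.subtype_injective, hCcard])
    haveI : Group.IsNilpotent C :=
      Group.nilpotent_of_mulEquiv (equivMapOfInjective C _ L.subtype_injective).symm
    refine Group.nilpotent_of_surjective (f.comp C.subtype) fun y => ?_
    obtain ⟨x, rfl⟩ := hs y
    have hx : x ∈ f.ker ⊔ C := by rw [hC.sup_eq_top]; trivial
    obtain ⟨a, ha, c, hc, rfl⟩ := mem_sup_of_normal_left.1 hx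
    exact ⟨⟨c, hc⟩, by simp [MonoidHom.mem_ker.1 ha]⟩
  · haveI := h L (by
      rw [card_eq_card_quotient_mul_card_subgroup f.ker, hker]
      refine Nat.Coprime.mul_left ?_ ?_
      · rwa [Nat.card_congr (QuotientGroup.quotientKerEquivOfSurjective f hs).toEquiv]
      · rw [hk]; exact Nat.Coprime.pow_left k ((Nat.coprime_primes Fact.out Fact.out).2 hrp))
    exact Group.nilpotent_of_surjective f hs

/-- A subgroup containing the prime power elements of another contains it. -/
theorem le_of_prime_pow [Finite G] {K L : Subgroup G}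
    (h : ∀ (r : ℕ), r.Prime → ∀ x ∈ K, (∃ k, orderOf x = r ^ k) → x ∈ L) : K ≤ L := by
  suffices hKL : K ⊓ L = K from hKL ▸ inf_le_right
  refine eq_of_le_of_card_ge inf_le_left (Nat.le_of_dvd Nat.card_pos ?_)
  rw [Nat.dvd_iff_prime_pow_dvd_dvd]
  intro r n hr hdvd
  haveI := Fact.mk hr
  obtain ⟨P⟩ := (inferInstance : Nonempty (Sylow r K))
  refine dvd_trans ?_ (card_dvd_of_le (H := (P : Subgroup K).map K.subtype) ?_)
  · rw [card_map_of_injective K.subtype_injective, P.card_eq_multiplicity]
    exact pow_dvd_pow r ((hr.pow_dvd_iff_le_factorization Nat.card_pos.ne').1 hdvd)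
  · rintro _ ⟨x, hx, rfl⟩
    obtain ⟨k, hk⟩ := IsPGroup.iff_orderOf.1 P.2 ⟨x, hx⟩
    exact ⟨x.2, h r hr _ x.2 ⟨k, by simpa using hk⟩⟩

section Solvable

variable [Finite G] {p : ℕ} [hpF : Fact p.Prime]

/-- A subgroup of order prime to `p` of a solvable group lies in a nilpotent Hall subgroup. -/
theorem exists_hall_ge (h : Hyp p G) [Group.IsSolvable G] {U : Subgroup G}
    (hU : (Nat.card U).Coprime p) :
    ∃ K : Subgroup G, U ≤ K ∧ Group.IsNilpotent K ∧ (∀ r, r.Prime → r ∣ K.index → r = p) := by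
  obtain ⟨K, hK, hUK⟩ := Hall.exists_le_hall (π := ({p}ᶜ : Set ℕ)) ((Cores.isPi_iff_coprime p U).2 hU)
  refine ⟨K, hUK, h K ((Cores.isPi_iff_coprime p K).1 hK.1), fun r hr hd => ?_⟩
  by_contra hne
  exact hK.2 r hr hne hd

/-- An element of odd order prime to `p` centralizes a Sylow `2`-subgroup. -/
theorem exists_sylow_commute (hp2 : p ≠ 2) (h : Hyp p G) [Group.IsSolvable G] {e : G}
    (he : (orderOf e).Coprime p) (hodd : Odd (orderOf e)) :
    ∃ R : Sylow 2 G, ∀ r ∈ (R : Subgroup G), Commute e r := by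
  haveI : Fact (Nat.Prime 2) := ⟨Nat.prime_two⟩
  obtain ⟨K, hle, hKn, hKi⟩ := exists_hall_ge h (U := zpowers e) (by rwa [Nat.card_zpowers])
  obtain ⟨Q⟩ := (inferInstance : Nonempty (Sylow 2 K))
  have hidx : ¬ 2 ∣ ((Q : Subgroup K).map K.subtype).index := by
    rw [index_map_subtype]
    intro hd
    rcases Nat.prime_two.dvd_mul.1 hd with h2 | h2
    · exact Q.not_dvd_index h2
    · exact hp2 (hKi 2 Nat.prime_two h2).symm
  refine ⟨(Q.2.map K.subtype).toSylow hidx, fun r hr => ?_⟩
  obtain ⟨y, hy, rfl⟩ := hr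
  obtain ⟨k, hk⟩ := IsPGroup.iff_orderOf.1 Q.2 ⟨y, hy⟩
  refine CN.commute_of_coprime hKn (hle (mem_zpowers e)) y.2 ?_
  have hy2 : orderOf (y : G) = 2 ^ k := by simpa using hk
  show (orderOf e).Coprime (orderOf (y : G))
  rw [hy2]
  exact (Nat.coprime_two_right.2 hodd).pow_right k

/-- A central element of a Sylow `2`-subgroup has `p`-power many conjugates. -/
theorem index_centralizer_eq_pow (hp2 : p ≠ 2) (h : Hyp p G) [Group.IsSolvable G] (R : Sylow 2 G)
    {z : G} (hz : z ∈ (R : Subgroup G)) (hzc : ∀ r ∈ (R : Subgroup G), Commute z r) :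
    ∃ k, (centralizer ({z} : Set G)).index = p ^ k := by
  haveI : Fact (Nat.Prime 2) := ⟨Nat.prime_two⟩
  obtain ⟨K, hle, hKn, hKi⟩ := exists_hall_ge h (U := (R : Subgroup G)) (by
    obtain ⟨k, hk⟩ := IsPGroup.iff_card.1 R.2
    rw [hk]
    exact Nat.Coprime.pow_left k ((Nat.coprime_primes Nat.prime_two Fact.out).2 (Ne.symm hp2)))
  obtain ⟨l, hl⟩ := IsPGroup.iff_orderOf.1 R.2 ⟨z, hz⟩
  have hzo : orderOf z = 2 ^ l := by simpa using hl
  have hKC : K ≤ centralizer ({z} : Set G) := le_of_prime_pow fun r hr x hx hxo => by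
    haveI := Fact.mk hr
    rw [mem_centralizer_singleton_iff]
    obtain ⟨k, hk⟩ := hxo
    by_cases hr2 : r = 2
    · subst hr2
      exact (hzc x (CN.mem_sylow_of_nilpotent hKn hle hx
        (IsPGroup.of_card (n := k) (by rw [Nat.card_zpowers, hk])))).eq.symm
    · refine CN.commute_of_coprime hKn hx (hle hz) ?_
      rw [hk, hzo]
      exact Nat.Coprime.pow _ _ ((Nat.coprime_primes hr Nat.prime_two).2 hr2)
  exact ⟨_, Nat.eq_prime_pow_of_unique_prime_dvd index_ne_zero_of_finite
    (fun {d} hd hdvd => hKi d hd (hdvd.trans (index_dvd_of_le hKC)))⟩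

end Solvable

theorem exists_not_commute_perm :
    ∃ a b : Equiv.Perm (Fin 4), a ^ 2 = 1 ∧ b ^ 3 = 1 ∧ a * b ≠ b * a :=
  ⟨Equiv.swap 0 1, Equiv.swap 0 1 * Equiv.swap 1 2, by decide, by decide, by decide⟩

/-- The symmetric group of degree four is not involved. -/
theorem not_involves [Finite G] [IsSimpleGroup G] {p : ℕ} [Fact p.Prime] (hp : 3 < p) (h : Hyp p G)
    (hns : ¬ Group.IsSolvable G) (hsol : ∀ K : Subgroup G, K ≠ ⊤ → Group.IsSolvable K) :
    ¬ Involves (Equiv.Perm (Fin 4)) G := by
  rintro ⟨K, R, hR, ⟨e⟩⟩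
  have hcop24 : (24 : ℕ).Coprime p := by
    rw [show (24 : ℕ) = 2 ^ 3 * 3 from rfl]
    exact Nat.Coprime.mul_left (Nat.Coprime.pow_left 3
      ((Nat.coprime_primes Nat.prime_two Fact.out).2 (by omega)))
      ((Nat.coprime_primes Nat.prime_three Fact.out).2 (by omega))
  have hS4 : Nat.card (Equiv.Perm (Fin 4)) = 24 := by
    rw [Nat.card_perm, Nat.card_fin]; rfl
  let f : K →* Equiv.Perm (Fin 4) := e.toMonoidHom.comp (QuotientGroup.mk' (R.subgroupOf K))
  have hf : Function.Surjective f := e.surjective.comp (QuotientGroup.mk'_surjective _)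
  have hnil : Group.IsNilpotent (Equiv.Perm (Fin 4)) := by
    by_cases hK : K = ⊤
    · subst hK
      haveI : (f.ker.map (⊤ : Subgroup G).subtype).Normal := by
        refine ⟨fun x hx g => ?_⟩
        obtain ⟨y, hy, rfl⟩ := hx
        exact ⟨(⟨g, mem_top g⟩ : (⊤ : Subgroup G)) * y * ⟨g, mem_top g⟩⁻¹,
          (MonoidHom.normal_ker f).conj_mem y hy _, rfl⟩
      have hidx : f.ker.index = 24 := by
        rw [index_ker, MonoidHom.range_eq_top.2 hf, card_top, hS4]
      rcases IsSimpleGroup.eq_bot_or_eq_top_of_normal _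
        (inferInstance : (f.ker.map (⊤ : Subgroup G).subtype).Normal) with hb | ht
      · exfalso
        refine hns ?_
        have hc := f.ker.card_mul_index
        rw [hidx, (map_eq_bot_iff_of_injective _ (⊤ : Subgroup G).subtype_injective).1 hb, card_bot,
          one_mul] at hc
        haveI := h ⊤ (hc ▸ hcop24)
        haveI : Group.IsNilpotent G := Group.nilpotent_of_mulEquiv Subgroup.topEquiv
        infer_instance
      · exfalso
        have hc := congrArg (fun X : Subgroup G => Nat.card X) ht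
        simp only [card_map_of_injective (⊤ : Subgroup G).subtype_injective] at hc
        have h2 := f.ker.card_mul_index
        rw [hidx, hc] at h2
        have : 0 < Nat.card (⊤ : Subgroup G) := Nat.card_pos
        omega
    · haveI := hsol K hK
      obtain ⟨H, hH⟩ := Hall.exists_hall ({p}ᶜ : Set ℕ) K
      haveI := (h.subgroup K) H ((Cores.isPi_iff_coprime p H).1 hH.1)
      have hHf := Hall.isPiHall_map hH hf
      have ht : H.map f = ⊤ := by
        rw [← index_eq_one]
        by_contra hne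
        obtain ⟨q, hq, hqd⟩ := Nat.exists_prime_and_dvd hne
        refine hHf.2 q hq (fun hqp => ?_) hqd
        have hpd : p ∣ 24 := hS4 ▸ Set.mem_singleton_iff.1 hqp ▸ hqd.trans (index_dvd_card _)
        exact Fact.out (p := p.Prime) |>.coprime_iff_not_dvd.1 hcop24.symm hpd
      refine Group.nilpotent_of_surjective (f.comp H.subtype) fun y => ?_
      obtain ⟨x, hx, rfl⟩ := (ht ▸ mem_top y : y ∈ H.map f)
      exact ⟨⟨x, hx⟩, rfl⟩
  obtain ⟨a, b, ha, hb, hab⟩ := exists_not_commute_perm
  refine hab (CN.commute_of_coprime_group (hH := hnil) a b ?_).eq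
  exact ((show (2 : ℕ).Coprime 3 by norm_num).coprime_dvd_left (orderOf_dvd_of_pow_eq_one ha)).coprime_dvd_right
    (orderOf_dvd_of_pow_eq_one hb)

/-- A `2`-group with one involution has no automorphism of order a prime power above three. -/
theorem aut_eq_one {T : Type u} [Group T] [Finite T] {p k : ℕ} (hp : p.Prime) (hp3 : 3 < p)
    (hT : IsPGroup 2 T) (hu : ∀ a b : T, orderOf a = 2 → orderOf b = 2 → a = b)
    (φ : MulAut T) (hφ : orderOf φ = p ^ k) : φ = 1 := by
  haveI : Fact (Nat.Prime 2) := ⟨Nat.prime_two⟩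
  have hodd : Odd (orderOf φ) := hφ ▸ (hp.odd_of_ne_two (by omega)).pow
  have huniq : ∀ H K : Subgroup T, Nat.card H = 2 → Nat.card K = 2 → H = K := by
    intro H K hH hK
    obtain ⟨a, ha⟩ := exists_prime_orderOf_dvd_card' (G := H) 2 (dvd_of_eq hH.symm)
    obtain ⟨b, hb⟩ := exists_prime_orderOf_dvd_card' (G := K) 2 (dvd_of_eq hK.symm)
    rw [← orderOf_coe] at ha hb
    have h1 : zpowers (a : T) = H := eq_of_le_of_card_ge (zpowers_le.2 a.2)
      (by rw [Nat.card_zpowers, ha, hH])
    have h2 : zpowers (b : T) = K := eq_of_le_of_card_ge (zpowers_le.2 b.2)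
      (by rw [Nat.card_zpowers, hb, hK])
    rw [← h1, ← h2, hu _ _ ha hb]
  rcases PGroups.UniqueSubgroup.isCyclic_or_quaternion hT huniq with hc | ⟨-, n, ⟨e⟩⟩
  · exact PLocal.QuaternionSection.aut_cyclic hT φ hodd
  rcases n with _ | _ | n
  · haveI : IsCyclic (QuaternionGroup (2 ^ 0)) := isCyclic_of_orderOf_eq_card
      (QuaternionGroup.xa 0) (by
        rw [QuaternionGroup.orderOf_xa, Nat.card_eq_fintype_card, QuaternionGroup.card]; norm_num)
    haveI : IsCyclic T := isCyclic_of_surjective e.symm.toMonoidHom e.symm.surjective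
    exact PLocal.QuaternionSection.aut_cyclic hT φ hodd
  · set ψ := MulAut.congr e φ with hψ
    have hψo : orderOf ψ = p ^ k := (MulEquiv.orderOf_eq _ _).trans hφ
    suffices ψ = 1 from (MulAut.congr e).injective (this.trans (map_one _).symm)
    by_contra hne
    obtain ⟨c, hc, hcψ⟩ := PLocal.QuaternionSection.q8_aut ψ (hψo ▸ hφ ▸ hodd) hne
    have hpow : ∀ l : ℕ, ∀ x, c ^ l * PLocal.QuaternionSection.q8Hom x * (c ^ l)⁻¹ =
        PLocal.QuaternionSection.q8Hom ((ψ ^ l) x) := by
      intro l
      induction l with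
      | zero => simp
      | succ l ih =>
        intro x
        rw [pow_succ' ψ, MulAut.mul_apply, ← hcψ, ← ih x]
        group
    have h3 : ψ ^ 3 = 1 := by
      ext x
      apply PLocal.QuaternionSection.q8Hom_injective
      rw [← hpow 3 x, hc]
      simp
    have h := orderOf_dvd_of_pow_eq_one h3
    rw [hψo] at h
    rcases k with _ | k
    · exact hne (orderOf_eq_one_iff.1 (by simpa using hψo))
    · have := Nat.le_of_dvd (by norm_num) ((dvd_pow_self p k.succ_ne_zero).trans h)
      omega
  · refine (MulAut.congr e).injective ((PLocal.QuaternionSection.aut_quaternion (by omega)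
      (MulAut.congr e φ) ?_).trans (map_one _).symm)
    rwa [MulEquiv.orderOf_eq]

end Cfsg.Agent.Coprime.OddInvariant.PPrimeNilpotent
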