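import Cfsg.Prelude.Def_CaseTheorems
import Cfsg.Agent.Lib.Coprime.OddInvariant.PPrimeNilpotent.Basic
import Cfsg.Agent.Lib.Coprime.Generation
import Cfsg.Agent.Lib.CharP.AgemoNormal
import Cfsg.Agent.InvChar.PConstrained
import Cfsg.Agent.Lib.PLocal.Cores
import Cfsg.Agent.Lib.PLocal.SolvableSeparable
import Cfsg.Agent.S0629

/-!
Solvable subgroups of a group in which the subgroups of order prime to `p` are nilpotent, at the prime two.
-/

set_option autoImplicit false
set_option linter.all false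

namespace Cfsg.Agent.Coprime.OddInvariant.PPrimeNilpotent

open Subgroup Cfsg

universe u

variable {G : Type u} [Group G]

/-- Two distinct commuting involutions. -/
def Pair (a b : G) : Prop := orderOf a = 2 ∧ orderOf b = 2 ∧ Commute a b ∧ a ≠ b

theorem Pair.closure_props {a b : G} (h : Pair a b) :
    IsMulCommutative (closure ({a, b} : Set G)) ∧ (∀ x ∈ closure ({a, b} : Set G), x ^ 2 = 1) := by
  obtain ⟨ha, hb, hab, -⟩ := h
  have hc : IsMulCommutative (closure ({a, b} : Set G)) := Subgroup.isMulCommutative_closure (by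
    rintro x (rfl | rfl) y (rfl | rfl)
    · rfl
    · exact hab.eq
    · exact hab.eq.symm
    · rfl)
  refine ⟨hc, fun x hx => ?_⟩
  induction hx using closure_induction with
  | mem x hx =>
    rcases hx with rfl | rfl
    · exact ha ▸ pow_orderOf_eq_one _
    · exact hb ▸ pow_orderOf_eq_one _
  | one => exact one_pow 2
  | mul x y hx hy ihx ihy =>
    haveI := hc
    have hxy : Commute x y := congrArg Subtype.val
      (mul_comm' (⟨x, hx⟩ : closure ({a, b} : Set G)) ⟨y, hy⟩)
    rw [hxy.mul_pow, ihx, ihy, one_mul]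
  | inv x _ ihx => rw [inv_pow, ihx, inv_one]

theorem Pair.isPGroup {a b : G} (h : Pair a b) : IsPGroup 2 (closure ({a, b} : Set G)) :=
  fun x => ⟨1, Subtype.ext (by simpa using h.closure_props.2 x x.2)⟩

theorem Pair.not_isCyclic [Finite G] {a b : G} (h : Pair a b) :
    ¬ IsCyclic (closure ({a, b} : Set G)) := by
  intro hc
  obtain ⟨g, hg⟩ := hc.exists_generator
  have hg2 : orderOf g ≤ 2 := by
    refine orderOf_le_of_pow_eq_one two_pos ?_
    exact Subtype.ext (by simpa using h.closure_props.2 g g.2)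
  have hle : Nat.card (closure ({a, b} : Set G)) ≤ 2 := by
    rw [← orderOf_eq_card_of_forall_mem_zpowers hg]; exact hg2
  have h3 : ({1, a, b} : Set G).ncard ≤ Nat.card (closure ({a, b} : Set G)) := by
    show _ ≤ Nat.card ((closure ({a, b} : Set G) : Subgroup G) : Set G)
    rw [Nat.card_coe_set_eq]
    exact Set.ncard_le_ncard (t := (closure ({a, b} : Set G) : Set G)) (by
      rintro x (rfl | rfl | rfl)
      · exact one_mem _
      · exact subset_closure (Or.inl rfl)
      · exact subset_closure (Or.inr rfl)) (Set.toFinite _)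
  rw [Set.ncard_insert_of_notMem (by
      rintro (e | e)
      · exact Involutions.Basic.ne_one h.1 e.symm
      · exact Involutions.Basic.ne_one h.2.1 e.symm) (Set.toFinite _), Set.ncard_pair h.2.2.2] at h3
  omega

theorem Pair.not_rank [Finite G] {a b : G} (h : Pair a b) {B : Subgroup G} (ha : a ∈ B) (hb : b ∈ B) :
    ¬ PRankLE 2 1 B := by
  intro hr
  set A := closure ({a, b} : Set G)
  obtain ⟨hc, hsq⟩ := h.closure_props
  haveI := hc
  have hle : A ≤ B := (closure_le B).2 (by rintro x (rfl | rfl); exacts [ha, hb])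
  have h1 := hr (A.subgroupOf B)
    (isMulCommutative_iff.2 fun x y => Subtype.ext (Subtype.ext
      (show ((x : B) : G) * (y : B) = (y : B) * (x : B) from
        congrArg Subtype.val (mul_comm' (⟨((x : B) : G), x.2⟩ : A) ⟨((y : B) : G), y.2⟩))))
    (fun x hx => Subtype.ext (by simpa using hsq _ hx))
  rw [Nat.card_congr (subgroupOfEquivOfLe hle).toEquiv] at h1
  obtain ⟨k, hk⟩ := (haveI : Fact (Nat.Prime 2) := ⟨Nat.prime_two⟩; IsPGroup.iff_card.1 h.isPGroup)
  rcases k with _ | _ | k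
  · exact h.not_isCyclic (haveI : Subsingleton A := (Nat.card_eq_one_iff_unique.1 hk).1; inferInstance)
  · exact h.not_isCyclic (haveI : Fact (Nat.Prime 2) := ⟨Nat.prime_two⟩; isCyclic_of_prime_card (by simpa using hk))
  · have : 2 ^ 2 ≤ 2 ^ (k + 1 + 1) := Nat.pow_le_pow_right two_pos (by omega)
    change Nat.card A ≤ 2 ^ 1 at h1
    rw [hk] at h1
    omega

theorem Pair.map {H : Type*} [Group H] {a b : G} (h : Pair a b) (f : G →* H) (hf : Function.Injective f) :
    Pair (f a) (f b) :=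
  ⟨(orderOf_injective f hf a).trans h.1, (orderOf_injective f hf b).trans h.2.1, h.2.2.1.map f,
    fun e => h.2.2.2 (hf e)⟩

section

variable [Finite G]

theorem isPConstrained_two [Group.IsSolvable G] :
    haveI : Fact (Nat.Prime 2) := ⟨Nat.prime_two⟩
    IsPConstrained 2 G := by
  haveI : Fact (Nat.Prime 2) := ⟨Nat.prime_two⟩
  obtain ⟨P⟩ := (inferInstance : Nonempty (Sylow 2 ↥(pPrimePCore 2 G)))
  exact Cfsg.Agent.S0629.result P (PLocal.SolvableSeparable.isPSolvable_of_isSolvable 2 _)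

theorem frattini_core (R : Sylow 2 G) :
    ((R : Subgroup G) ⊓ pPrimePCore 2 G).map (QuotientGroup.mk' (pPrimeCore 2 G)) =
        pCore 2 (G ⧸ pPrimeCore 2 G) ∧
      pPrimeCore 2 G ⊔ normalizer (((R : Subgroup G) ⊓ pPrimePCore 2 G : Subgroup G) : Set G) = ⊤ := by
  haveI : Fact (Nat.Prime 2) := ⟨Nat.prime_two⟩
  set W := pPrimePCore 2 G with hW
  obtain ⟨P, hP⟩ := CharP.AgemoNormal.exists_sylow_inf_normal R W
  have hmap : (P : Subgroup W).map W.subtype = (R : Subgroup G) ⊓ W := by
    ext x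
    constructor
    · rintro ⟨y, hy, rfl⟩; exact ⟨(hP y).1 hy, y.2⟩
    · rintro ⟨hx, hxW⟩; exact ⟨⟨x, hxW⟩, (hP _).2 hx, rfl⟩
  have himg := Components.Local.map_sylow_pPrimePCore P
  rw [hmap] at himg
  refine ⟨himg, eq_top_iff.2 ?_⟩
  have hfr := Sylow.normalizer_sup_eq_top P
  rw [hmap] at hfr
  have hWle : W ≤ pPrimeCore 2 G ⊔ ((R : Subgroup G) ⊓ W) := by
    intro x hx
    have h1 : QuotientGroup.mk' (pPrimeCore 2 G) x ∈
        ((R : Subgroup G) ⊓ W).map (QuotientGroup.mk' (pPrimeCore 2 G)) := by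
      rw [himg, ← Cfsg.Agent.PLocal.Cores.map_pPrimePCore]; exact mem_map_of_mem _ hx
    obtain ⟨y, hy, hyx⟩ := h1
    have h2 : x * y⁻¹ ∈ pPrimeCore 2 G := by
      rw [← QuotientGroup.eq_one_iff, QuotientGroup.mk_mul, QuotientGroup.mk_inv]
      change QuotientGroup.mk' _ x * (QuotientGroup.mk' _ y)⁻¹ = 1
      rw [hyx, mul_inv_cancel]
    simpa using mul_mem_sup h2 hy
  rw [← hfr]
  exact sup_le le_sup_right (hWle.trans (sup_le le_sup_left (le_normalizer.trans le_sup_right)))

/-- If `O_{2',2}` has a Sylow `2`-subgroup with one involution, the group is `O(G)` times a Sylow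
`2`-subgroup. -/
theorem core_sup_sylow_eq_top {p : ℕ} [Fact p.Prime] (hp3 : 3 < p) (h : Hyp p G) [Group.IsSolvable G]
    (R : Sylow 2 G)
    (hu : ∀ a ∈ (R : Subgroup G) ⊓ pPrimePCore 2 G, ∀ b ∈ (R : Subgroup G) ⊓ pPrimePCore 2 G,
      orderOf a = 2 → orderOf b = 2 → a = b) :
    pPrimeCore 2 G ⊔ (R : Subgroup G) = ⊤ := by
  haveI : Fact (Nat.Prime 2) := ⟨Nat.prime_two⟩
  set O := pPrimeCore 2 G with hO
  set q := QuotientGroup.mk' O with hq
  set V := pCore 2 (G ⧸ O) with hV
  have hchar := InvChar.PConstrained.iff_char.1 (isPConstrained_two (G := G))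
  obtain ⟨himg, -⟩ := frattini_core R
  have hOodd : ∀ x ∈ O, Odd (orderOf x) := fun x hx => Nat.coprime_two_right.1
    ((Cores.pPrimeCore_card_coprime (G := G) 2).coprime_dvd_left (orderOf_dvd_natCard O hx))
  -- the involutions of `V`
  have huV : ∀ a b : V, orderOf a = 2 → orderOf b = 2 → a = b := by
    have lift : ∀ a : V, orderOf a = 2 →
        ∃ x ∈ (R : Subgroup G) ⊓ pPrimePCore 2 G, orderOf x = 2 ∧ q x = a := by
      intro a ha
      obtain ⟨x, hx, hxa⟩ : (a : G ⧸ O) ∈ ((R : Subgroup G) ⊓ pPrimePCore 2 G).map q := himg ▸ a.2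
      refine ⟨x, hx, Involutions.Basic.orderOf_two_iff.2 ⟨?_, fun e => ?_⟩, hxa⟩
      · have h1 : x * x ∈ O := by
          rw [← QuotientGroup.eq_one_iff]
          change q (x * x) = 1
          rw [map_mul, hxa]
          exact congrArg Subtype.val (Involutions.Basic.inv_sq_one ha)
        have h2 : x * x ∈ (R : Subgroup G) := mul_mem hx.1 hx.1
        obtain ⟨k, hk⟩ := IsPGroup.iff_orderOf.1 R.2 ⟨_, h2⟩
        refine PLocal.QuaternionSection.eq_one_of_pow_two_pow (K := k) (hOodd _ h1) ?_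
        have : orderOf (x * x) = 2 ^ k := by simpa using hk
        rw [← this]; exact pow_orderOf_eq_one _
      · subst e
        rw [map_one] at hxa
        exact Involutions.Basic.ne_one ha (Subtype.ext hxa.symm)
    intro a b ha hb
    obtain ⟨x, hx, hx2, hxa⟩ := lift a ha
    obtain ⟨y, hy, hy2, hyb⟩ := lift b hb
    exact Subtype.ext (by rw [← hxa, ← hyb, hu x hx y hy hx2 hy2])
  -- elements of odd prime power order lie in the core
  have hodd : ∀ (r : ℕ), r.Prime → r ≠ 2 → ∀ g : G, (∃ k, orderOf g = r ^ k) → g ∈ O := by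
    intro r hr hr2 g ⟨k, hk⟩
    have hgo : Odd (orderOf g) := hk ▸ (hr.odd_of_ne_two hr2).pow
    suffices hc : q g ∈ centralizer (V : Set (G ⧸ O)) by
      obtain ⟨l, hl⟩ := IsPGroup.iff_orderOf.1 (Cores.pCore_isPGroup 2) ⟨_, hchar hc⟩
      have hl' : orderOf (q g) = 2 ^ l := by simpa using hl
      rw [← QuotientGroup.eq_one_iff]
      exact PLocal.QuaternionSection.eq_one_of_pow_two_pow (K := l) (hgo.of_dvd_nat (orderOf_map_dvd q g))
        (hl' ▸ pow_orderOf_eq_one _)
    by_cases hrp : r = p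
    · subst hrp
      obtain ⟨l, -, hl⟩ := (Nat.dvd_prime_pow hr).1
        ((orderOf_map_dvd ((MulAut.conjNormal (H := V)).comp q) g).trans hk.dvd)
      have h1 := aut_eq_one hr hp3 (Cores.pCore_isPGroup 2) huV _ hl
      rw [mem_centralizer_iff]
      intro v hv
      have h2 := congrArg (fun f : MulAut V => ((f ⟨v, hv⟩ : V) : G ⧸ O)) h1
      simp only [MonoidHom.comp_apply, MulAut.conjNormal_apply, MulAut.one_apply] at h2
      exact (mul_inv_eq_iff_eq_mul.1 h2).symm
    · obtain ⟨R', hR'⟩ := exists_sylow_commute (by omega : p ≠ 2) h (e := g)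
        (hk ▸ Nat.Coprime.pow_left k ((Nat.coprime_primes hr Fact.out).2 hrp)) hgo
      obtain ⟨himg', -⟩ := frattini_core R'
      rw [mem_centralizer_iff]
      intro v hv
      obtain ⟨x, hx, rfl⟩ : v ∈ ((R' : Subgroup G) ⊓ pPrimePCore 2 G).map q := himg' ▸ hv
      rw [← map_mul, ← map_mul, (hR' x hx.1).eq]
  rw [← index_eq_one]
  by_contra hne
  obtain ⟨r, hr, hrd⟩ := Nat.exists_prime_and_dvd hne
  haveI := Fact.mk hr
  rcases eq_or_ne r 2 with rfl | hr2
  · exact R.not_dvd_index (hrd.trans (index_dvd_of_le le_sup_right))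
  · obtain ⟨P⟩ := (inferInstance : Nonempty (Sylow r G))
    refine P.not_dvd_index (hrd.trans (index_dvd_of_le fun x hx => mem_sup_left (hodd r hr hr2 x ?_)))
    obtain ⟨k, hk⟩ := IsPGroup.iff_orderOf.1 P.2 ⟨x, hx⟩
    exact ⟨k, by simpa using hk⟩

end

end Cfsg.Agent.Coprime.OddInvariant.PPrimeNilpotent
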