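import Cfsg.Agent.Lib.Coprime.OddInvariant.PPrimeNilpotent.Local
import Cfsg.Agent.Lib.Involutions.StronglyEmbedded
import Mathlib.GroupTheory.Index

/-!
A group with a strongly embedded subgroup cannot have all subgroups of order prime to `p` nilpotent and all
proper subgroups solvable.
-/

set_option autoImplicit false
set_option linter.all false

namespace Cfsg.Agent.Coprime.OddInvariant.PPrimeNilpotent

open Subgroup Cfsg Cfsg.Agent.Involutions
open Cfsg.Agent.Involutions.Basic (inv_eq inv_sq_one orderOf_two_iff orderOf_conj)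

universe u

variable {G : Type u} [Group G]

/-- The conjugates of an element correspond to the cosets of its centralizer. -/
theorem ncard_conj_eq_index [Finite G] (z : G) :
    {y : G | ∃ g : G, g * z * g⁻¹ = y}.ncard = (centralizer ({z} : Set G)).index := by
  letI : MulAction G G := MulAction.compHom G (MulAut.conj : G →* MulAut G)
  have hs : MulAction.stabilizer G z = centralizer ({z} : Set G) := by
    ext g
    rw [MulAction.mem_stabilizer_iff, mem_centralizer_singleton_iff]
    show g * z * g⁻¹ = z ↔ g * z = z * g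
    exact mul_inv_eq_iff_eq_mul
  rw [← hs, MulAction.index_stabilizer]
  congr 1

variable [Finite G] {p : ℕ} [hpF : Fact p.Prime] {H : Subgroup G}

/-- An odd element inverted by an involution is a `p`-element. -/
theorem exists_pow_of_inverted (hp2 : p ≠ 2) (h : Hyp p G) {t x : G} (ht : orderOf t = 2)
    (hx : Odd (orderOf x)) (hinv : t * x * t⁻¹ = x⁻¹) : ∃ k, orderOf x = p ^ k := by
  haveI : Fact (Nat.Prime 2) := ⟨Nat.prime_two⟩
  set n := orderOf x with hn
  have hn0 : n ≠ 0 := (orderOf_pos x).ne'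
  set k := n.factorization p with hk
  have hdvd : p ^ k ∣ n := Nat.ordProj_dvd n p
  have hm : (n / p ^ k).Coprime p := (Nat.coprime_ordCompl Fact.out hn0).symm
  set y := x ^ p ^ k with hy
  have hyo : orderOf y = n / p ^ k := by
    rw [hy, orderOf_pow_of_dvd (pow_ne_zero _ hpF.out.ne_zero) hdvd]
  have hyinv : t * y * t⁻¹ = y⁻¹ := by rw [hy, ← conj_pow, hinv, inv_pow]
  set L := zpowers t ⊔ zpowers y with hL
  set N := normalizer ((zpowers y : Subgroup G) : Set G) with hN
  have htN : t ∈ N := by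
    have ht' : t⁻¹ = t := inv_eq ht
    refine mem_normalizer_iff.2 fun z => ?_
    have key : ∀ z ∈ zpowers y, t * z * t⁻¹ ∈ zpowers y := by
      rintro z ⟨i, rfl⟩
      show t * y ^ i * t⁻¹ ∈ _
      rw [← conj_zpow, hyinv]
      exact zpow_mem (inv_mem (mem_zpowers y)) i
    refine ⟨key z, fun hz => ?_⟩
    have := key _ hz
    rwa [ht', show t * (t * z * t) * t = (t * t) * z * (t * t) by group, inv_sq_one ht, one_mul,
      mul_one] at this
  have hyN : zpowers y ≤ N := le_normalizer
  haveI : ((zpowers y).subgroupOf N).Normal := normal_subgroupOf_of_le_normalizer le_rfl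
  have hcard : (Nat.card L).Coprime p := by
    have hLN : L ≤ N := sup_le (zpowers_le.2 htN) hyN
    rw [← Nat.card_congr (subgroupOfEquivOfLe hLN).toEquiv,
      subgroupOf_sup (zpowers_le.2 htN) hyN]
    refine Nat.Coprime.coprime_dvd_left (Cores.card_sup_dvd_mul _ _) (Nat.Coprime.mul_left ?_ ?_)
    · rw [Nat.card_congr (subgroupOfEquivOfLe (zpowers_le.2 htN)).toEquiv, Nat.card_zpowers, ht]
      exact (Nat.coprime_primes Nat.prime_two hpF.out).2 (Ne.symm hp2)
    · rw [Nat.card_congr (subgroupOfEquivOfLe hyN).toEquiv, Nat.card_zpowers, hyo]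
      exact hm
  have hyodd : Odd (orderOf y) := hx.of_dvd_nat (orderOf_pow_dvd _)
  have hc := CN.commute_of_coprime (h L hcard) (mem_sup_left (mem_zpowers t))
    (mem_sup_right (mem_zpowers y)) (by rw [ht]; exact Nat.coprime_two_left.2 hyodd)
  rw [hc, mul_inv_cancel_right] at hyinv
  have hy2 : y ^ 2 ^ 1 = 1 := by
    rw [pow_one, sq, mul_eq_one_iff_eq_inv]; exact hyinv
  have hy1 : y = 1 := PLocal.QuaternionSection.eq_one_of_pow_two_pow hyodd hy2
  obtain ⟨l, -, hl⟩ := (Nat.dvd_prime_pow hpF.out).1 (orderOf_dvd_of_pow_eq_one hy1)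
  exact ⟨l, hl⟩

/-- A solvable subgroup meeting a strongly embedded subgroup in two commuting involutions lies in it. -/
theorem le_of_pair (hH : IsStronglyEmbedded H) (X : Subgroup G) [Group.IsSolvable X] {a b : G}
    (hab : Pair a b) (haX : a ∈ X) (hbX : b ∈ X) (haH : a ∈ H) (hbH : b ∈ H) : X ≤ H := by
  haveI : Fact (Nat.Prime 2) := ⟨Nat.prime_two⟩
  set B := closure ({a, b} : Set G) with hB
  have hBX : B ≤ X := (closure_le X).2 (by rintro x (rfl | rfl); exacts [haX, hbX])
  obtain ⟨R, hR⟩ := (hab.isPGroup.comap_of_injective X.subtype X.subtype_injective).exists_le_sylow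
  set L := H.subgroupOf X with hL
  -- the Sylow subgroup
  have haR : (⟨a, haX⟩ : X) ∈ (R : Subgroup X) := hR (subset_closure (Or.inl rfl))
  haveI : Nontrivial (R : Subgroup X) := (nontrivial_iff_ne_bot _).2 fun e => by
    rw [e, mem_bot] at haR
    exact Involutions.Basic.ne_one hab.1 (congrArg Subtype.val haR : a = 1)
  haveI := R.2.center_nontrivial
  obtain ⟨k, hk⟩ := IsPGroup.iff_card.1 (R.2.to_subgroup (center (R : Subgroup X)))
  have hk0 : k ≠ 0 := by
    rintro rfl
    exact absurd (Finite.one_lt_card (α := center (R : Subgroup X))) (by rw [hk]; simp)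
  obtain ⟨c, hc2⟩ := exists_prime_orderOf_dvd_card' (G := center (R : Subgroup X)) 2
    (hk ▸ dvd_pow_self 2 hk0)
  have hc2' : orderOf (((c : (R : Subgroup X)) : X) : G) = 2 := by
    exact (orderOf_coe _).trans ((orderOf_coe _).trans ((orderOf_coe c).trans hc2))
  have hcomm : ∀ r ∈ (R : Subgroup X), Commute ((r : X) : G) (((c : (R : Subgroup X)) : X) : G) :=
    fun r hr => by
      have := congrArg (fun w : (R : Subgroup X) => ((w : X) : G)) (mem_center_iff.1 c.2 ⟨r, hr⟩)
      exact this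
  have hcH : (((c : (R : Subgroup X)) : X) : G) ∈ H :=
    StronglyEmbedded.mem_of_commute hH haH hab.1 (hcomm _ haR).symm
  have hRL : (R : Subgroup X) ≤ L := fun r hr =>
    StronglyEmbedded.mem_of_commute hH hcH hc2' (hcomm r hr)
  -- the core
  have hOL : pPrimeCore 2 X ≤ L := by
    set O := pPrimeCore 2 X
    set B' := B.subgroupOf X with hB'
    haveI := hab.closure_props.1
    haveI : IsMulCommutative B' := isMulCommutative_iff.2 fun x y => Subtype.ext (Subtype.ext
      (show ((x : X) : G) * (y : X) = (y : X) * (x : X) from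
        congrArg Subtype.val (mul_comm' (⟨((x : X) : G), x.2⟩ : B) ⟨((y : X) : G), y.2⟩)))
    have hnc : ¬ IsCyclic B' := fun hc => hab.not_isCyclic
      (isCyclic_of_surjective (subgroupOfEquivOfLe hBX).toMonoidHom (subgroupOfEquivOfLe hBX).surjective)
    have hgen := Cfsg.Agent.Coprime.fixedGen_eq (A := B') (K := O) hnc le_normalizer_of_normal (by
      obtain ⟨k, hk⟩ := IsPGroup.iff_card.1 hab.isPGroup
      rw [Nat.card_congr (subgroupOfEquivOfLe hBX).toEquiv, hk]
      exact (Cores.pPrimeCore_card_coprime (G := X) 2).symm.pow_left k)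
    rw [← hgen]
    refine iSup₂_le fun x ⟨hx, hx1⟩ => fun y hy => ?_
    have hxH : (x : G) ∈ H := (closure_le H).2 (by rintro w (rfl | rfl); exacts [haH, hbH]) hx
    have hx2 : orderOf (x : G) = 2 := orderOf_eq_prime (hab.closure_props.2 _ hx)
      (fun e => hx1 (Subtype.ext e))
    exact StronglyEmbedded.mem_of_commute hH hxH hx2
      (congrArg Subtype.val (mem_centralizer_singleton_iff.1 hy.2))
  -- the normalizer
  obtain ⟨himg, hfr⟩ := frattini_core R
  set T := (R : Subgroup X) ⊓ pPrimePCore 2 X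
  have hT : T ≠ ⊥ := by
    intro e
    rw [e, Subgroup.map_bot] at himg
    have hchar := InvChar.PConstrained.iff_char.1 (isPConstrained_two (G := X))
    rw [← himg] at hchar
    have h1 : QuotientGroup.mk' (pPrimeCore 2 X) (⟨a, haX⟩ : X) = 1 :=
      mem_bot.1 (hchar (mem_centralizer_iff.2 fun y hy => by
        rw [SetLike.mem_coe, mem_bot] at hy; subst hy; simp))
    have h2 : (orderOf (⟨a, haX⟩ : X)).Coprime 2 := (Cores.pPrimeCore_card_coprime (G := X) 2).coprime_dvd_left
      (orderOf_dvd_natCard _ ((QuotientGroup.eq_one_iff _).1 h1))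
    rw [orderOf_mk, hab.1] at h2
    norm_num at h2
  haveI : Nontrivial T := (nontrivial_iff_ne_bot T).2 hT
  obtain ⟨k, hk⟩ := IsPGroup.iff_card.1 (R.2.to_le (inf_le_left : T ≤ _))
  have hk0 : k ≠ 0 := by
    rintro rfl
    exact absurd (Finite.one_lt_card (α := T)) (by rw [hk]; simp)
  obtain ⟨s, hs⟩ := exists_prime_orderOf_dvd_card' (G := T) 2 (hk ▸ dvd_pow_self 2 hk0)
  have hsG : orderOf ((s : X) : G) = 2 := by simpa using hs
  have hNL : normalizer (T : Set X) ≤ L := fun g hg =>
    StronglyEmbedded.mem_of_conj hH (t := ((s : X) : G)) (hRL s.2.1) hsG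
      (hRL (x := g * (s : X) * g⁻¹) ((mem_normalizer_iff.1 hg (s : X)).1 s.2).1)
  intro x hx
  have : (⟨x, hx⟩ : X) ∈ L := by
    have h1 : (⟨x, hx⟩ : X) ∈ pPrimeCore 2 X ⊔ normalizer (T : Set X) := by rw [hfr]; trivial
    exact sup_le hOL hNL h1
  exact this

section

variable (hp3 : 3 < p) (h : Hyp p G) (hH : IsStronglyEmbedded H)
variable (hsol : ∀ K : Subgroup G, K ≠ ⊤ → Group.IsSolvable K)
variable (hpair : ∀ t : G, orderOf t = 2 → ∃ w, Pair t w) (hZ : center G = ⊥)

include hH hpair in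
theorem pair_in {t : G} (ht : orderOf t = 2) (htH : t ∈ H) : ∃ w ∈ H, Pair t w := by
  obtain ⟨w, hw⟩ := hpair t ht
  exact ⟨w, StronglyEmbedded.mem_of_commute hH htH ht hw.2.2.1.symm, hw⟩

include hp3 h hH hsol hpair hZ in
/-- The intersection of two distinct conjugates is a `p`-group. -/
theorem isPGroup_inf {g : G} (hg : g ∉ H) : IsPGroup p ↥(H ⊓ H.map (MulAut.conj g).toMonoidHom) := by
  haveI : Fact (Nat.Prime 2) := ⟨Nat.prime_two⟩
  set D := H ⊓ H.map (MulAut.conj g).toMonoidHom
  haveI := hsol H hH.1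
  rw [IsPGroup.iff_card]
  refine ⟨_, Nat.eq_prime_pow_of_unique_prime_dvd Nat.card_pos.ne' (fun {r} hr hrd => ?_)⟩
  by_contra hne
  haveI := Fact.mk hr
  have hr2 : r ≠ 2 := by
    rintro rfl
    exact Nat.not_even_iff_odd.2 (hH.2.2 g hg) (even_iff_two_dvd.2 hrd)
  obtain ⟨e, he⟩ := exists_prime_orderOf_dvd_card' (G := D) r hrd
  rw [← orderOf_coe] at he
  -- an element of order `r` in `H` centralizes two commuting involutions of `H`
  have key : ∀ e : G, e ∈ H → orderOf e = r →
      ∃ a ∈ H, ∃ b ∈ H, Pair a b ∧ Commute e a ∧ Commute e b := by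
    intro e heH heo
    obtain ⟨R, hR⟩ := exists_sylow_commute (G := H) (by omega : p ≠ 2) (h.subgroup H) (e := ⟨e, heH⟩)
      (by rw [orderOf_mk, heo]; exact (Nat.coprime_primes hr Fact.out).2 hne)
      (by rw [orderOf_mk, heo]; exact hr.odd_of_ne_two hr2)
    obtain ⟨t, htH, ht⟩ := StronglyEmbedded.exists_involution_mem hH.2.1
    obtain ⟨w, hwH, hw⟩ := pair_in hH hpair ht htH
    obtain ⟨Q, hQ⟩ := (hw.isPGroup.comap_of_injective H.subtype H.subtype_injective).exists_le_sylow
    obtain ⟨c, hc⟩ := MulAction.exists_smul_eq H Q R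
    refine ⟨(c * ⟨t, htH⟩ * c⁻¹ : H), SetLike.coe_mem _, (c * ⟨w, hwH⟩ * c⁻¹ : H), SetLike.coe_mem _, ?_⟩
    have hmem : ∀ x : H, (x : G) ∈ closure ({t, w} : Set G) → c * x * c⁻¹ ∈ (R : Subgroup H) := by
      intro x hx
      rw [← hc]
      exact ⟨x, hQ hx, rfl⟩
    exact ⟨hw.map (MulAut.conj (c : G)).toMonoidHom (MulAut.conj (c : G)).injective,
      (hR _ (hmem ⟨t, htH⟩ (subset_closure (Or.inl rfl)))).map H.subtype,
      (hR _ (hmem ⟨w, hwH⟩ (subset_closure (Or.inr rfl)))).map H.subtype⟩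
  haveI hX : Group.IsSolvable (centralizer ({(e : G)} : Set G)) := by
    refine hsol _ fun htop => ?_
    have hec : (e : G) ∈ center G := mem_center_iff.2 fun x =>
      mem_centralizer_singleton_iff.1 (htop ▸ mem_top x : x ∈ centralizer ({(e : G)} : Set G))
    rw [hZ, mem_bot] at hec
    exact hr.ne_one (by rw [← he, hec, orderOf_one])
  obtain ⟨a, haH, b, hbH, hab, hea, heb⟩ := key e e.2.1 he
  have hCH : centralizer ({(e : G)} : Set G) ≤ H := le_of_pair hH _ hab
    (mem_centralizer_singleton_iff.2 hea.eq.symm) (mem_centralizer_singleton_iff.2 heb.eq.symm) haH hbH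
  obtain ⟨e₀, he₀, hee⟩ := e.2.2
  change g * e₀ * g⁻¹ = e at hee
  obtain ⟨a', ha'H, b', hb'H, hab', hea', -⟩ := key e₀ he₀ (by rw [← orderOf_conj g e₀, hee, he])
  refine hg (StronglyEmbedded.mem_of_conj hH ha'H hab'.1 (hCH ?_))
  rw [mem_centralizer_singleton_iff, ← hee]
  exact ((hea'.map (MulAut.conj g).toMonoidHom).eq).symm

end

end Cfsg.Agent.Coprime.OddInvariant.PPrimeNilpotent
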