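import Cfsg.Agent.Lib.Coprime.OddInvariant.PPrimeNilpotent.Finish
import Cfsg.Agent.Lib.SolvableSignalizer.ScnThree
import Cfsg.Agent.Lib.CharP.UniqueMaxLocal
import Cfsg.Agent.Lib.CharP.LocalModel
import Cfsg.Agent.S0205
import Cfsg.Agent.S0214
import Cfsg.Agent.S0215
import Cfsg.Agent.S1927

/-!
A simple group with all subgroups of order prime to `p` nilpotent and all proper subgroups solvable would
have a strongly embedded subgroup.
-/

set_option autoImplicit false
set_option linter.all false

namespace Cfsg.Agent.Coprime.OddInvariant.PPrimeNilpotent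

open Subgroup Cfsg Cfsg.Agent.Involutions
open Cfsg.Agent.Involutions.Basic (inv_eq inv_sq_one orderOf_two_iff orderOf_conj)

universe u

variable {G : Type u} [Group G] [Finite G] {p : ℕ} [hpF : Fact p.Prime]

section Setting

variable [IsSimpleGroup G]
variable (hp3 : 3 < p) (h : Hyp p G) (hns : ¬ Group.IsSolvable G)
variable (hsol : ∀ K : Subgroup G, K ≠ ⊤ → Group.IsSolvable K)

include hns

omit hpF in
theorem center_eq_bot : center G = ⊥ := by
  rcases IsSimpleGroup.eq_bot_or_eq_top_of_normal _ (inferInstance : (center G).Normal) with hb | ht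
  · exact hb
  · refine absurd (Group.isSolvable_of_comm fun a b => ?_) hns
    exact (mem_center_iff.1 (ht ▸ mem_top b : b ∈ center G) a)

omit hpF in
theorem normalizer_ne_top {q : ℕ} [Fact q.Prime] {P : Subgroup G} (hP : IsPGroup q P) (hP1 : P ≠ ⊥) :
    normalizer (P : Set G) ≠ ⊤ := by
  intro e
  have hn : P.Normal := normalizer_eq_top_iff.1 e
  rcases IsSimpleGroup.eq_bot_or_eq_top_of_normal _ hn with hb | ht
  · exact hP1 hb
  · subst ht
    haveI := hP.isNilpotent
    haveI : Group.IsNilpotent G := Group.nilpotent_of_mulEquiv Subgroup.topEquiv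
    exact hns inferInstance

include hp3 h hsol in
theorem exists_stronglyEmbedded :
    ∃ H : Subgroup G, IsStronglyEmbedded H ∧ ∀ t : G, orderOf t = 2 → ∃ w, Pair t w := by
  haveI : Fact (Nat.Prime 2) := ⟨Nat.prime_two⟩
  have hfree := not_involves hp3 h hns hsol
  have heven : 2 ∣ Nat.card G := by
    by_contra hodd
    exact hns (Cfsg.Agent.S0205.result (Nat.not_even_iff_odd.1 fun e => hodd (even_iff_two_dvd.1 e)))
  obtain ⟨S⟩ := (inferInstance : Nonempty (Sylow 2 G))
  have hS1 : (S : Subgroup G) ≠ ⊥ := S.ne_bot_of_dvd_card heven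
  -- a central involution of `S`
  haveI : Nontrivial (S : Subgroup G) := (nontrivial_iff_ne_bot _).2 hS1
  haveI := S.2.center_nontrivial
  obtain ⟨k, hk⟩ := IsPGroup.iff_card.1 (S.2.to_subgroup (center (S : Subgroup G)))
  have hk0 : k ≠ 0 := by
    rintro rfl
    exact absurd (Finite.one_lt_card (α := center (S : Subgroup G))) (by rw [hk]; simp)
  obtain ⟨z₀, hz₀⟩ := exists_prime_orderOf_dvd_card' (G := center (S : Subgroup G)) 2
    (hk ▸ dvd_pow_self 2 hk0)
  set z : G := ((z₀ : (S : Subgroup G)) : G) with hz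
  have hz2 : orderOf z = 2 := (orderOf_coe _).trans ((orderOf_coe z₀).trans hz₀)
  have hzS : z ∈ (S : Subgroup G) := (z₀ : (S : Subgroup G)).2
  have hzc : ∀ r ∈ (S : Subgroup G), Commute z r := fun r hr =>
    (congrArg Subtype.val (mem_center_iff.1 z₀.2 ⟨r, hr⟩)).symm
  -- the controlling subgroup
  obtain ⟨W, hWc, hlow, hup, hfus⟩ := Cfsg.Agent.S1927.result hfree S
  haveI := hWc
  set W' := W.map (S : Subgroup G).subtype with hW'
  have hzW : z ∈ W' := hlow (subset_closure ⟨⟨z₀, z₀.2, rfl⟩, hz2 ▸ pow_orderOf_eq_one z⟩)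
  have hW'1 : W' ≠ ⊥ := fun e => Involutions.Basic.ne_one hz2 (mem_bot.1 (e ▸ hzW))
  have hW'S : W' ≤ (S : Subgroup G) := map_subtype_le _
  set M := normalizer (W' : Set G) with hM
  have hMne : M ≠ ⊤ := normalizer_ne_top hns (S.2.to_le hW'S) hW'1
  have hSM : (S : Subgroup G) ≤ M := fun x hx => by
    refine mem_normalizer_iff.2 fun y => ?_
    have key : ∀ x' : (S : Subgroup G), ∀ y ∈ W', (x' : G) * y * (x' : G)⁻¹ ∈ W' := by
      rintro x' _ ⟨w, hw, rfl⟩
      exact ⟨x' * w * x'⁻¹, (inferInstance : W.Normal).conj_mem w hw x', rfl⟩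
    refine ⟨key ⟨x, hx⟩ y, fun hy => ?_⟩
    have := key ⟨x, hx⟩⁻¹ _ hy
    simpa [mul_assoc] using this
  -- `W` is elementary of order at least eight
  have hexp : IsMulCommutative W ∧ ∀ w ∈ W', w ^ 2 = 1 := by
    set Z := centerThompsonOf 2 (S : Subgroup G) with hZ
    have hZc : ∀ a ∈ Z, ∀ b ∈ Z, a * b = b * a := fun a ha b hb => mem_centralizer_iff.1 hb.2 a ha.1
    have hcomm : IsMulCommutative (omegaOne 2 Z) :=
      Subgroup.isMulCommutative_closure fun a ha b hb => hZc a ha.1 b hb.1
    haveI := hcomm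
    have hc : ∀ a ∈ omegaOne 2 Z, ∀ b ∈ omegaOne 2 Z, a * b = b * a := fun a ha b hb =>
      congrArg Subtype.val (mul_comm' (⟨a, ha⟩ : omegaOne 2 Z) ⟨b, hb⟩)
    refine ⟨isMulCommutative_iff.2 fun a b => Subtype.ext (Subtype.ext
      (hc _ (hup ⟨a, a.2, rfl⟩) _ (hup ⟨b, b.2, rfl⟩))), fun w hw => ?_⟩
    have hw' := hup hw
    clear hw
    induction hw' using closure_induction with
    | mem x hx => exact hx.2
    | one => exact one_pow 2
    | mul x y hx hy ihx ihy => rw [(show Commute x y from hc x hx y hy).mul_pow, ihx, ihy, one_mul]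
    | inv x _ ihx => rw [inv_pow, ihx, inv_one]
  haveI hMs := hsol M hMne
  have hbig : 5 ≤ Nat.card W' := by
    obtain ⟨k, hk⟩ := index_centralizer_eq_pow (by omega : p ≠ 2) (h.subgroup M) (S.subtype hSM)
      (z := (⟨z, hSM hzS⟩ : M)) hzS (fun r hr => Subtype.ext (hzc (r : G) hr).eq)
    have hk1 : k ≠ 0 := by
      rintro rfl
      rw [pow_zero, index_eq_one] at hk
      -- the central involution would be isolated
      have hiso : ∀ g : G, g * z * g⁻¹ ∈ (S : Subgroup G) → g * z * g⁻¹ = z := by
        intro g hg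
        obtain ⟨x, hx, hxe⟩ := (hfus {z} (Set.singleton_subset_iff.2 hzS)).2 g (by
          rintro _ ⟨a, (rfl : a = z), rfl⟩; exact hg)
        rw [hxe z rfl]
        have hxz : (⟨x, hx⟩ : M) ∈ centralizer ({(⟨z, hSM hzS⟩ : M)} : Set M) := hk ▸ mem_top _
        exact mul_inv_eq_iff_eq_mul.2 (congrArg Subtype.val (mem_centralizer_singleton_iff.1 hxz))
      obtain ⟨N, hN, hNodd, hNc⟩ := Cfsg.Agent.S0215.result S z hz2 hzS hiso
      rcases IsSimpleGroup.eq_bot_or_eq_top_of_normal _ hN with hb | ht
      · have hzZ : z ∈ center G := mem_center_iff.2 fun g => by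
          have := hNc g
          rw [hb, mem_bot, mul_inv_eq_one, mul_inv_eq_iff_eq_mul] at this
          exact this.symm
        rw [center_eq_bot hns, mem_bot] at hzZ
        exact Involutions.Basic.ne_one hz2 hzZ
      · rw [ht, card_top] at hNodd
        exact Nat.not_even_iff_odd.2 hNodd (even_iff_two_dvd.2 heven)
    have h5 : 5 ≤ p := by
      rcases eq_or_ne p 4 with rfl | h4
      · exact absurd hpF.out (by norm_num)
      · omega
    refine le_trans (le_trans h5 (Nat.le_self_pow hk1 p)) (le_of_eq_of_le hk.symm ?_)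
    rw [← ncard_conj_eq_index, ← Nat.card_coe_set_eq]
    refine Nat.card_le_card_of_injective (fun y => ⟨((y.1 : M) : G), ?_⟩) ?_
    · obtain ⟨g, hg⟩ := y.2
      rw [← hg]
      exact (mem_normalizer_iff.1 g.2 z).1 hzW
    · intro a b hab
      exact Subtype.ext (Subtype.ext (congrArg (fun v : W' => (v : G)) hab))
  -- partners
  have hpartS : ∀ t ∈ (S : Subgroup G), orderOf t = 2 → ∃ w ∈ (S : Subgroup G), Pair t w := by
    intro t htS ht
    by_cases htz : t = z
    · subst htz
      obtain ⟨y, hy, hy1, hyz⟩ : ∃ y ∈ W', y ≠ 1 ∧ y ≠ z := by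
        by_contra hc
        push Not at hc
        have hsub : (W' : Set G) ⊆ {1, z} := fun y hy => by
          by_cases hy1 : y = 1
          · exact Or.inl hy1
          · exact Or.inr (hc y hy hy1)
        have h1 := Set.ncard_le_ncard hsub (Set.toFinite _)
        rw [Set.ncard_pair (Ne.symm (Involutions.Basic.ne_one hz2)), ← Nat.card_coe_set_eq] at h1
        have : Nat.card W' ≤ 2 := h1
        omega
      exact ⟨y, hW'S hy, hz2, orderOf_eq_prime (hexp.2 y hy) hy1, hzc y (hW'S hy), Ne.symm hyz⟩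
    · exact ⟨z, hzS, ht, hz2, (hzc t htS).symm, htz⟩
  have htoS : ∀ t : G, orderOf t = 2 → ∃ g : G, ∃ s ∈ (S : Subgroup G), g * s * g⁻¹ = t := by
    intro t ht
    obtain ⟨Q, hQ⟩ := (IsPGroup.of_card (n := 1) (by rw [Nat.card_zpowers, ht, pow_one]) :
      IsPGroup 2 (zpowers t)).exists_le_sylow
    obtain ⟨g, hg⟩ := MulAction.exists_smul_eq G S Q
    have htQ : t ∈ (Q : Subgroup G) := hQ (mem_zpowers t)
    rw [← hg] at htQ
    obtain ⟨s, hs, hst⟩ := htQ
    exact ⟨g, s, hs, hst⟩
  have hpair : ∀ t : G, orderOf t = 2 → ∃ w, Pair t w := by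
    intro t ht
    obtain ⟨g, s, hs, hst⟩ := htoS t ht
    obtain ⟨w, -, hw⟩ := hpartS s hs (by rw [← orderOf_conj g s, hst, ht])
    exact ⟨g * w * g⁻¹, hst ▸ hw.map (MulAut.conj g).toMonoidHom (MulAut.conj g).injective⟩
  -- the signalizers
  have h2c : ∀ T : Subgroup G, IsPGroup 2 T → T ≠ ⊥ → IsPConstrained 2 ↥(normalizer (T : Set G)) :=
    fun T hT hT1 => by
      haveI := hsol _ (normalizer_ne_top hns hT hT1)
      exact isPConstrained_two
  have hrankW : ¬ PRankLE 2 2 W := by
    intro hr
    haveI := hexp.1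
    have := hr ⊤ (isMulCommutative_iff.2 fun a b => mul_comm' a b)
      (fun a _ => Subtype.ext (Subtype.ext (by simpa using hexp.2 _ ⟨a.1, a.2, rfl⟩)))
    rw [card_top, ← card_map_of_injective (S : Subgroup G).subtype_injective] at this
    change Nat.card W' ≤ 2 ^ 2 at this
    omega
  obtain ⟨θW, hθodd, hθ⟩ := SolvableSignalizer.cores_generate
    (fun K hK => Cfsg.Agent.S0205.result hK) h2c S (A := W) inferInstance hexp.1 hrankW S
  have hθle : ∀ t ∈ (S : Subgroup G), orderOf t = 2 → centralizerPPrimeCore 2 t ≤ θW := by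
    intro t htS ht
    obtain ⟨w, hwS, hw⟩ := hpartS t htS ht
    rw [(hθ (closure ({t, w} : Set G)) ((closure_le _).2 (by rintro x (rfl | rfl); exacts [htS, hwS]))
      (hw.not_rank (subset_closure (Or.inl rfl)) (subset_closure (Or.inr rfl)))).1]
    exact le_iSup (fun b : {b : G // b ∈ closure ({t, w} : Set G) ∧ b ≠ 1} =>
      centralizerPPrimeCore 2 (b : G)) ⟨t, subset_closure (Or.inl rfl), Involutions.Basic.ne_one ht⟩
  by_cases hθ1 : θW = ⊥
  · -- all cores are trivial
    have hcore : ∀ t : G, orderOf t = 2 → centralizerPPrimeCore 2 t = ⊥ := by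
      intro t ht
      obtain ⟨g, s, hs, hst⟩ := htoS t ht
      rw [← hst, SolvableSignalizer.centralizerPPrimeCore_conj,
        le_bot_iff.1 ((hθle s hs (by rw [← orderOf_conj g s, hst, ht])).trans hθ1.le), Subgroup.map_bot]
    have hloc : CharP.UniqueMaxLocal.Hyp G := by
      rintro N ⟨T, hT, hT1, rfl⟩
      haveI := hsol _ (normalizer_ne_top hns hT hT1)
      refine ⟨?_, fun hinv => hfree (CharP.LocalModel.involves_subgroup hinv)⟩
      suffices hO : pPrimeCore 2 ↥(normalizer (T : Set G)) = ⊥ by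
        exact (InvChar.PConstrained.iff_of_surjective (MonoidHom.id _) Function.surjective_id
          (by rw [(MonoidHom.ker_eq_bot_iff _).2 Function.injective_id, card_bot]; exact Nat.coprime_one_left _)
          hO).1 isPConstrained_two
      -- an involution centralizing the core
      haveI : Nontrivial T := (nontrivial_iff_ne_bot T).2 hT1
      haveI := hT.center_nontrivial
      obtain ⟨k, hk⟩ := IsPGroup.iff_card.1 (hT.to_subgroup (center T))
      have hk0 : k ≠ 0 := by
        rintro rfl
        exact absurd (Finite.one_lt_card (α := center T)) (by rw [hk]; simp)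
      obtain ⟨t₀, ht₀⟩ := exists_prime_orderOf_dvd_card' (G := center T) 2 (hk ▸ dvd_pow_self 2 hk0)
      set t : G := ((t₀ : T) : G) with ht'
      have ht : orderOf t = 2 := (orderOf_coe _).trans ((orderOf_coe t₀).trans ht₀)
      have htc : ∀ r ∈ T, Commute t r := fun r hr =>
        (congrArg Subtype.val (mem_center_iff.1 t₀.2 ⟨r, hr⟩)).symm
      set N := normalizer (T : Set G)
      set X := (pPrimeCore 2 N).map N.subtype
      have hXc : (Nat.card X).Coprime 2 := by
        rw [card_map_of_injective N.subtype_injective]; exact Cores.pPrimeCore_card_coprime 2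
      have hXN : X ≤ N := map_subtype_le _
      have hXT : ∀ x ∈ X, ∀ r ∈ T, Commute x r := by
        rintro _ ⟨x, hx, rfl⟩ r hr
        haveI : (T.subgroupOf N).Normal := normal_subgroupOf_of_le_normalizer le_rfl
        have hdis : Disjoint (pPrimeCore 2 N) (T.subgroupOf N) := by
          rw [disjoint_iff, inf_eq_bot_of_coprime]
          obtain ⟨l, hl⟩ := IsPGroup.iff_card.1 hT
          rw [Nat.card_congr (subgroupOfEquivOfLe (le_normalizer : T ≤ N)).toEquiv, hl]
          exact (Cores.pPrimeCore_card_coprime 2).pow_right l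
        exact (commute_of_normal_of_disjoint _ _ inferInstance inferInstance hdis x
          ⟨r, le_normalizer hr⟩ hx hr).map N.subtype
      set C := centralizer ({t} : Set G)
      have hTC : T ≤ C := fun r hr => mem_centralizer_singleton_iff.2 (htc r hr).symm.eq
      have hXC : X ≤ C := fun x hx => mem_centralizer_singleton_iff.2 (hXT x hx t (t₀ : T).2).eq
      have hCne : C ≠ ⊤ := fun e => by
        have : t ∈ center G := mem_center_iff.2 fun g =>
          (mem_centralizer_singleton_iff.1 (e ▸ mem_top g : g ∈ C))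
        rw [center_eq_bot hns, mem_bot] at this
        exact Involutions.Basic.ne_one ht this
      haveI := hsol C hCne
      have hOC : pPrimeCore 2 C = ⊥ := (map_eq_bot_iff_of_injective _ C.subtype_injective).1 (hcore t ht)
      have hchar : centralizer (pCore 2 C : Set C) ≤ pCore 2 C :=
        (InvChar.PConstrained.iff_of_surjective (MonoidHom.id _) Function.surjective_id
          (by rw [(MonoidHom.ker_eq_bot_iff _).2 Function.injective_id, card_bot]; exact Nat.coprime_one_left _)
          hOC).1 isPConstrained_two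
      have hN' := (Components.Local.normalizer_of_characteristic hchar
        (hT.comap_of_injective C.subtype C.subtype_injective : IsPGroup 2 (T.subgroupOf C))).1
      set N' := normalizer ((T.subgroupOf C : Subgroup C) : Set C)
      have hN'N : ∀ c : C, c ∈ N' → (c : G) ∈ N := by
        intro c hc
        refine mem_normalizer_iff.2 fun r => ⟨fun hr => ?_, fun hr => ?_⟩
        · exact ((mem_normalizer_iff.1 hc ⟨r, hTC hr⟩).1 hr)
        · have hrC : r ∈ C := by
            have := mul_mem (mul_mem (inv_mem c.2) (hTC hr)) c.2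
            simpa [mul_assoc] using this
          exact ((mem_normalizer_iff.1 hc ⟨r, hrC⟩).2 hr)
      have hXN' : X.subgroupOf C ≤ N' := fun c hc => by
        refine mem_normalizer_iff.2 fun r => ?_
        exact mem_normalizer_iff.1 (hXN hc) (r : G)
      haveI : ((X.subgroupOf C).subgroupOf N').Normal := ⟨fun x hx g => by
        obtain ⟨y, hy, hyx⟩ := hx
        exact ⟨⟨(g : C), hN'N _ g.2⟩ * y * ⟨(g : C), hN'N _ g.2⟩⁻¹,
          (Cores.pPrimeCore_normal 2).conj_mem y hy _, by
            show ((g : C) : G) * (y : G) * ((g : C) : G)⁻¹ = _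
            rw [show ((y : N) : G) = _ from hyx]
            rfl⟩⟩
      have hle : (X.subgroupOf C).subgroupOf N' ≤ pPrimeCore 2 N' := Cores.le_pPrimeCore (by
        rwa [Nat.card_congr (subgroupOfEquivOfLe hXN').toEquiv,
          Nat.card_congr (subgroupOfEquivOfLe hXC).toEquiv])
      have hN'' : pPrimeCore 2 N' = ⊥ := hN'
      rw [hN'', le_bot_iff] at hle
      refine (map_eq_bot_iff_of_injective _ N.subtype_injective).1 (le_bot_iff.1 fun x hx => ?_)
      have hx' : (⟨⟨x, hXC hx⟩, hXN' (show (⟨x, hXC hx⟩ : C) ∈ X.subgroupOf C from hx)⟩ : N') ∈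
          (X.subgroupOf C).subgroupOf N' := hx
      rw [hle, mem_bot] at hx'
      exact mem_bot.2 (congrArg (fun v : N' => ((v : C) : G)) hx')
    obtain ⟨H, hH, -⟩ := CharP.UniqueMaxLocal.exists_maximal
      (N := normalizer ((S : Subgroup G) : Set G)) ⟨(S : Subgroup G), S.2, hS1, rfl⟩
    refine ⟨H, CharP.UniqueMaxLocal.isStronglyEmbedded hloc ?_ hH, hpair⟩
    by_contra hO2
    exact normalizer_ne_top hns (Cores.pCore_isPGroup 2) hO2 (normalizer_eq_top_iff.2 inferInstance)
  · -- the normalizer of the signalizer is strongly embedded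
    set H := normalizer (θW : Set G) with hH
    have hHne : H ≠ ⊤ := by
      intro e
      rcases IsSimpleGroup.eq_bot_or_eq_top_of_normal _ (normalizer_eq_top_iff.1 e) with hb | ht
      · exact hθ1 hb
      · rw [ht, card_top] at hθodd
        exact Nat.not_even_iff_odd.2 hθodd (even_iff_two_dvd.2 heven)
    have hBS : ∀ B : Subgroup G, B ≤ (S : Subgroup G) → (∃ a ∈ B, ∃ b ∈ B, Pair a b) →
        normalizer (B : Set G) ≤ H := by
      rintro B hB ⟨a, ha, b, hb, hab⟩
      exact (hθ B hB (hab.not_rank ha hb)).2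
    obtain ⟨y, hy, hzy⟩ := hpartS z hzS hz2
    have hSH : (S : Subgroup G) ≤ H := le_normalizer.trans (hBS _ le_rfl ⟨z, hzS, y, hy, hzy⟩)
    -- a `2`-subgroup of `H` with two commuting involutions
    have hBH : ∀ B : Subgroup G, IsPGroup 2 B → B ≤ H → (∃ a ∈ B, ∃ b ∈ B, Pair a b) →
        normalizer (B : Set G) ≤ H := by
      rintro B hB hBH ⟨a, ha, b, hb, hab⟩
      obtain ⟨Q, hQ⟩ := (hB.comap_of_injective H.subtype H.subtype_injective).exists_le_sylow
      obtain ⟨c, hc⟩ := MulAction.exists_smul_eq H Q (S.subtype hSH)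
      set φ := (MulAut.conj (c : G)).toMonoidHom
      have hφ : B.map φ ≤ (S : Subgroup G) := by
        rintro _ ⟨x, hx, rfl⟩
        have : c * ⟨x, hBH hx⟩ * c⁻¹ ∈ ((S.subtype hSH : Sylow 2 H) : Subgroup H) := by
          rw [← hc]; exact ⟨⟨x, hBH hx⟩, hQ hx, rfl⟩
        exact this
      have hle := hBS _ hφ ⟨_, mem_map_of_mem φ ha, _, mem_map_of_mem φ hb,
        hab.map φ (MulAut.conj (c : G)).injective⟩
      intro g hg
      have hm := hle (le_normalizer_map φ ⟨g, hg, rfl⟩)
      have := mul_mem (mul_mem (inv_mem c.2) hm) c.2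
      simpa [φ, mul_assoc] using this
    -- centralizers of involutions
    have hCH : ∀ t ∈ (S : Subgroup G), orderOf t = 2 → centralizer ({t} : Set G) ≤ H := by
      intro t htS ht
      obtain ⟨w, hwS, hw⟩ := hpartS t htS ht
      set C := centralizer ({t} : Set G) with hC
      haveI := hsol C (fun e => by
        have : t ∈ center G := mem_center_iff.2 fun g =>
          (mem_centralizer_singleton_iff.1 (e ▸ mem_top g : g ∈ C))
        rw [center_eq_bot hns, mem_bot] at this
        exact Involutions.Basic.ne_one ht this)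
      have htC : t ∈ C := mem_centralizer_singleton_iff.2 rfl
      have hwC : w ∈ C := mem_centralizer_singleton_iff.2 hw.2.2.1.eq.symm
      obtain ⟨R, hR⟩ := (S.2.comap_of_injective C.subtype C.subtype_injective).exists_le_sylow
      set R' := (R : Subgroup C).map C.subtype with hR'
      have hR'p : IsPGroup 2 R' := R.2.map _
      have hRH : R' ≤ H := by
        by_contra hnot
        haveI := hR'p.isNilpotent
        set U := (R' ⊓ H).subgroupOf R'
        have hUlt : U < ⊤ := lt_top_iff_ne_top.2 fun e => hnot ((subgroupOf_eq_top.1 e).trans inf_le_right)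
        obtain ⟨x, hxN, hxU⟩ := SetLike.exists_of_lt (Group.normalizerCondition_of_isNilpotent U hUlt)
        refine hxU ⟨x.2, hBH (R' ⊓ H) (hR'p.to_le inf_le_left) inf_le_right
          ⟨t, ⟨⟨⟨t, htC⟩, hR (show t ∈ (S : Subgroup G) from htS), rfl⟩, hSH htS⟩,
            w, ⟨⟨⟨w, hwC⟩, hR (show w ∈ (S : Subgroup G) from hwS), rfl⟩, hSH hwS⟩, hw⟩ ?_⟩
        refine mem_normalizer_iff.2 fun r => ⟨fun hr => ?_, fun hr => ?_⟩
        · exact (mem_normalizer_iff.1 hxN ⟨r, hr.1⟩).1 hr
        · have hrR : r ∈ R' := by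
            have := mul_mem (mul_mem (inv_mem x.2) hr.1) x.2
            simpa [mul_assoc] using this
          exact (mem_normalizer_iff.1 hxN ⟨r, hrR⟩).2 hr
      have hRL : (R : Subgroup C) ≤ H.subgroupOf C := fun r hr => hRH ⟨r, hr, rfl⟩
      have hOL : pPrimeCore 2 C ≤ H.subgroupOf C := fun r hr =>
        (le_normalizer : θW ≤ H) (hθle t htS ht ⟨r, hr, rfl⟩)
      suffices htop : H.subgroupOf C = ⊤ from subgroupOf_eq_top.1 htop
      refine eq_top_iff.2 ?_
      by_cases hu : ∀ a ∈ (R : Subgroup C) ⊓ pPrimePCore 2 C, ∀ b ∈ (R : Subgroup C) ⊓ pPrimePCore 2 C,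
          orderOf a = 2 → orderOf b = 2 → a = b
      · rw [← core_sup_sylow_eq_top hp3 (h.subgroup C) R hu]
        exact sup_le hOL hRL
      · push Not at hu
        obtain ⟨a, ha, b, hb, ha2, hb2, hab⟩ := hu
        obtain ⟨-, hfr⟩ := frattini_core R
        set T := (R : Subgroup C) ⊓ pPrimePCore 2 C with hT
        set tC : C := ⟨t, htC⟩
        have htT : tC ∈ T := by
          refine ⟨hR (show t ∈ (S : Subgroup G) from htS), ?_⟩
          have htc : tC ∈ center C := mem_center_iff.2 fun g =>
            Subtype.ext (mem_centralizer_singleton_iff.1 g.2)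
          haveI : (zpowers tC).Normal := ⟨fun n hn g => by
            have := zpowers_le.2 htc hn
            rwa [mem_center_iff.1 this g, mul_inv_cancel_right]⟩
          refine Cfsg.Agent.PLocal.Cores.le_pPrimePCore (N := zpowers tC) ?_ (mem_zpowers tC)
          exact (IsPGroup.of_card (n := 1) (by
            rw [Nat.card_zpowers, orderOf_mk, ht, pow_one]) : IsPGroup 2 (zpowers tC)).map _
        obtain ⟨c, hc, hc2, hct⟩ : ∃ c ∈ T, orderOf c = 2 ∧ c ≠ tC := by
          by_cases hat : a = tC
          · exact ⟨b, hb, hb2, fun e => hab (hat.trans e.symm)⟩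
          · exact ⟨a, ha, ha2, hat⟩
        have hpairT : Pair t (c : G) := ⟨ht, by rw [orderOf_coe]; exact hc2,
          (mem_centralizer_singleton_iff.1 c.2).symm,
          fun e => hct (Subtype.ext e.symm)⟩
        have hN := hBH (T.map C.subtype) ((R.2.to_le inf_le_left).map _)
          (map_le_iff_le_comap.2 (inf_le_left.trans hRL))
          ⟨t, ⟨tC, htT, rfl⟩, (c : G), ⟨c, hc, rfl⟩, hpairT⟩
        rw [← hfr]
        exact sup_le hOL fun g hg => hN (le_normalizer_map C.subtype ⟨g, hg, rfl⟩)
    refine ⟨H, ?_, hpair⟩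
    have hSne : ((S.subtype hSH : Sylow 2 H) : Subgroup H) ≠ ⊥ := by
      intro e
      have : (⟨z, hSH hzS⟩ : H) ∈ ((S.subtype hSH : Sylow 2 H) : Subgroup H) := hzS
      rw [e, mem_bot] at this
      exact Involutions.Basic.ne_one hz2 (congrArg Subtype.val this)
    refine (Cfsg.Agent.S0214.result H hHne (S.subtype hSH) hSne).2 fun X hX hX1 => ?_
    set X' := X.map H.subtype
    have hX'S : X' ≤ (S : Subgroup G) := by rintro _ ⟨x, hx, rfl⟩; exact hX hx
    have hX'1 : X' ≠ ⊥ := fun e => hX1 ((map_eq_bot_iff_of_injective _ H.subtype_injective).1 e)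
    haveI : Nontrivial X' := (nontrivial_iff_ne_bot X').2 hX'1
    obtain ⟨k, hk⟩ := IsPGroup.iff_card.1 (S.2.to_le hX'S)
    have hk0 : k ≠ 0 := by
      rintro rfl
      exact absurd (Finite.one_lt_card (α := X')) (by rw [hk]; simp)
    obtain ⟨t, ht⟩ := exists_prime_orderOf_dvd_card' (G := X') 2 (hk ▸ dvd_pow_self 2 hk0)
    rw [← orderOf_coe] at ht
    intro g hg
    have hgt : g * (t : G) * g⁻¹ ∈ X' := (mem_normalizer_iff.1 hg (t : G)).1 t.2
    by_cases he : g * (t : G) * g⁻¹ = t
    · exact hCH t (hX'S t.2) ht (mem_centralizer_singleton_iff.2 (mul_inv_eq_iff_eq_mul.1 he))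
    · by_cases hcm : Commute (t : G) (g * t * g⁻¹)
      · exact hBS X' hX'S ⟨t, t.2, _, hgt, ⟨ht, (orderOf_conj _ _).trans ht, hcm, Ne.symm he⟩⟩ hg
      · -- the centre supplies a second involution
        haveI := (S.2.to_le hX'S).center_nontrivial
        obtain ⟨l, hl⟩ := IsPGroup.iff_card.1 ((S.2.to_le hX'S).to_subgroup (center X'))
        have hl0 : l ≠ 0 := by
          rintro rfl
          exact absurd (Finite.one_lt_card (α := center X')) (by rw [hl]; simp)
        obtain ⟨c, hc⟩ := exists_prime_orderOf_dvd_card' (G := center X') 2 (hl ▸ dvd_pow_self 2 hl0)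
        have hc2 : orderOf ((c : X') : G) = 2 := (orderOf_coe _).trans ((orderOf_coe c).trans hc)
        have hctcomm : Commute (t : G) ((c : X') : G) :=
          (congrArg Subtype.val (mem_center_iff.1 c.2 t) : _)
        refine hBS X' hX'S ⟨t, t.2, _, (c : X').2, ⟨ht, hc2, hctcomm, fun e => hcm ?_⟩⟩ hg
        have h' : Commute ((c : X') : G) (g * (t : G) * g⁻¹) :=
          (congrArg Subtype.val (mem_center_iff.1 c.2 ⟨_, hgt⟩)).symm
        exact (congrArg (fun v => Commute v (g * (t : G) * g⁻¹)) e).mpr h'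

include hp3 h hsol in
theorem not_minimal : False := by
  obtain ⟨H, hH, hpair⟩ := exists_stronglyEmbedded hp3 h hns hsol
  exact false_of_stronglyEmbedded hp3 h hH hsol hpair (center_eq_bot hns)
    (fun P hP hP1 => normalizer_ne_top hns hP hP1)

end Setting

/-- For a prime `p > 3`, a finite group whose subgroups of order prime to `p` are nilpotent is solvable. -/
theorem isSolvable_of_hyp (hp3 : 3 < p) : ∀ (n : ℕ) {G : Type u} [Group G] [Finite G],
    Nat.card G = n → Hyp p G → Group.IsSolvable G := by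
  intro n
  induction n using Nat.strong_induction_on with
  | _ n ih =>
    intro G _ _ hn h
    by_contra hns
    have hsol : ∀ K : Subgroup G, K ≠ ⊤ → Group.IsSolvable K := fun K hK =>
      ih _ (hn ▸ (lt_of_le_of_ne (Nat.le_of_dvd Nat.card_pos K.card_subgroup_dvd_card)
        fun e => hK (eq_top_of_card_eq K e))) rfl (h.subgroup K)
    haveI : Nontrivial G := by
      by_contra hc
      rw [not_nontrivial_iff_subsingleton] at hc
      exact hns inferInstance
    by_cases hsimp : IsSimpleGroup G
    · exact not_minimal hp3 h hns hsol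
    · obtain ⟨N, hN, hN1, hN2⟩ : ∃ N : Subgroup G, N.Normal ∧ N ≠ ⊥ ∧ N ≠ ⊤ := by
        by_contra hc
        push Not at hc
        exact hsimp ⟨fun N hN => by by_cases h1 : N = ⊥; exacts [Or.inl h1, Or.inr (hc N hN h1)]⟩
      haveI := hN
      haveI := hsol N hN2
      obtain ⟨M, hMn, hMN, hM, hmin⟩ := Hall.exists_minimal_normal N hN1
      haveI : Group.IsSolvable M := hsol M (fun e => hN2 (top_le_iff.1 (e ▸ hMN)))
      obtain ⟨r, hr, -, hrM, -⟩ := Hall.minimal_normal_isElementaryAbelian hM hmin
      haveI := Fact.mk hr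
      haveI := hMn
      have hlt : Nat.card (G ⧸ M) < Nat.card G := by
        rw [M.card_eq_card_quotient_mul_card_subgroup]
        exact lt_mul_of_one_lt_right Nat.card_pos (M.one_lt_card_iff_ne_bot.2 hM)
      haveI := ih _ (hn ▸ hlt) (G := G ⧸ M) rfl (h.quotient M hrM)
      exact hns ((Group.isSolvable_iff_subgroup_quotient M).mpr ⟨inferInstance, inferInstance⟩)

end Cfsg.Agent.Coprime.OddInvariant.PPrimeNilpotent
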