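import Cfsg.Agent.Lib.Coprime.OddInvariant.PPrimeNilpotent.Count
import Mathlib.GroupTheory.PGroup
import Mathlib.GroupTheory.Sylow

/-!
Counting strongly real elements against a strongly embedded subgroup.
-/

set_option autoImplicit false
set_option linter.all false

namespace Cfsg.Agent.Coprime.OddInvariant.PPrimeNilpotent

open Subgroup Cfsg Cfsg.Agent.Involutions MulAction
open Cfsg.Agent.Involutions.Basic (inv_eq inv_sq_one orderOf_two_iff orderOf_conj)

universe u

variable {G : Type u} [Group G] [Finite G] {p : ℕ} [hpF : Fact p.Prime] {H : Subgroup G}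

omit [Finite G] in
theorem smul_one_coset (g : G) : g • ((1 : G) : G ⧸ H) = (g : G ⧸ H) := by
  show ((g * 1 : G) : G ⧸ H) = _
  rw [mul_one]

omit [Finite G] in
theorem smul_one_coset_eq_iff {g : G} : g • ((1 : G) : G ⧸ H) = ((1 : G) : G ⧸ H) ↔ g ∈ H := by
  rw [smul_one_coset, QuotientGroup.eq, mul_one, inv_mem_iff]

omit [Finite G] in
theorem mem_map_conj_iff {u d : G} : d ∈ H.map (MulAut.conj u).toMonoidHom ↔
    d • (u : G ⧸ H) = (u : G ⧸ H) := by
  show _ ↔ ((d * u : G) : G ⧸ H) = (u : G ⧸ H)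
  rw [QuotientGroup.eq]
  constructor
  · rintro ⟨x, hx, rfl⟩
    show (u * x * u⁻¹ * u)⁻¹ * u ∈ H
    rw [show (u * x * u⁻¹ * u)⁻¹ * u = x⁻¹ by group]
    exact inv_mem hx
  · intro h
    exact ⟨u⁻¹ * d * u, by simpa [mul_assoc] using inv_mem h, by
      show u * (u⁻¹ * d * u) * u⁻¹ = d
      group⟩

/-- The involutions interchanging two cosets exist. -/
theorem exists_swap (hH : IsStronglyEmbedded H) {x : G ⧸ H} (hx : x ≠ ((1 : G) : G ⧸ H)) :
    ∃ u : G, orderOf u = 2 ∧ u ∉ H ∧ u • ((1 : G) : G ⧸ H) = x := by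
  obtain ⟨t, htH, ht⟩ := StronglyEmbedded.exists_involution_mem hH.2.1
  have hc := StronglyEmbedded.card_swap hH ((1 : G) : G ⧸ H) x hx.symm
  haveI : Nonempty {t : G // orderOf t = 2 ∧ t ∈ H} := ⟨⟨t, ht, htH⟩⟩
  obtain ⟨⟨⟨u, hu, hux⟩⟩, -⟩ := Nat.card_pos_iff.1 (hc ▸ Nat.card_pos (α := {t : G // orderOf t = 2 ∧ t ∈ H}))
  exact ⟨u, hu, fun h => hx (hux ▸ smul_one_coset_eq_iff.2 h), hux⟩

section

variable (hp3 : 3 < p) (h : Hyp p G) (hH : IsStronglyEmbedded H)
variable (hsol : ∀ K : Subgroup G, K ≠ ⊤ → Group.IsSolvable K)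
variable (hpair : ∀ t : G, orderOf t = 2 → ∃ w, Pair t w) (hZ : center G = ⊥)

include hH hpair in
/-- No involution of `H` normalizes the intersection with another conjugate. -/
theorem notMem_normalizer {u t : G} (hu : orderOf u = 2) (huH : u ∉ H) (ht : orderOf t = 2)
    (htH : t ∈ H) :
    t ∉ normalizer ((H ⊓ H.map (MulAut.conj u).toMonoidHom : Subgroup G) : Set G) := by
  intro htN
  obtain ⟨w, hwH, -, hw2, htw, hne⟩ := pair_in hH hpair ht htH
  obtain ⟨d, hd, hdw⟩ := StronglyEmbedded.exists_conj_in_inter hH hu huH ht htH hw2 hwH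
  set D := H ⊓ H.map (MulAut.conj u).toMonoidHom
  have hti : t⁻¹ = t := inv_eq ht
  have htt : t * t = 1 := inv_sq_one ht
  have hdt : t * d * t⁻¹ ∈ D := (mem_normalizer_iff.1 htN d).1 hd
  set c := d⁻¹ * (t * d * t⁻¹) with hc
  have hcD : c ∈ D := mul_mem (inv_mem hd) hdt
  have hct : Commute c t := by
    have h1 : t * d * t⁻¹ * t * (t * d * t⁻¹)⁻¹ = w := by
      rw [show t * d * t⁻¹ * t * (t * d * t⁻¹)⁻¹ = t * (d * t * d⁻¹) * t⁻¹ by group, hdw,
        htw.eq, mul_inv_cancel_right]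
    show c * t = t * c
    rw [← mul_inv_eq_iff_eq_mul, hc,
      show d⁻¹ * (t * d * t⁻¹) * t * (d⁻¹ * (t * d * t⁻¹))⁻¹ =
        d⁻¹ * (t * d * t⁻¹ * t * (t * d * t⁻¹)⁻¹) * d by group, h1, ← hdw]
    group
  have hinv : t * c * t⁻¹ = c⁻¹ := by
    rw [hc, hti]
    simp only [mul_inv_rev, inv_inv, hti, mul_assoc]
    rw [htt, mul_one]
  rw [← hct.eq, mul_inv_cancel_right] at hinv
  have hcodd : Odd (orderOf c) := by
    have := orderOf_dvd_natCard (⟨c, hcD⟩ : D)
    rw [orderOf_mk] at this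
    exact (hH.2.2 u huH).of_dvd_nat this
  have hc1 : c = 1 := PLocal.QuaternionSection.eq_one_of_pow_two_pow (K := 1) hcodd
    (by rw [pow_one, sq, mul_eq_one_iff_eq_inv]; exact hinv)
  rw [hc, inv_mul_eq_one] at hc1
  have hcm : d * t = t * d := by
    conv_lhs => rw [hc1]
    group
  exact hne (by rw [← hdw, hcm, mul_inv_cancel_right])

include hp3 h hH hsol hpair hZ in
/-- The involutions of `H` number a power of `p`. -/
theorem exists_card_involutions :
    ∃ a, Nat.card {t : G // orderOf t = 2 ∧ t ∈ H} = p ^ a := by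
  obtain ⟨u, huH, hu⟩ := StronglyEmbedded.exists_involution_notMem hH
  obtain ⟨t, htH, ht⟩ := StronglyEmbedded.exists_involution_mem hH.2.1
  set D := H ⊓ H.map (MulAut.conj u).toMonoidHom
  letI : MulAction G G := MulAction.compHom G (MulAut.conj : G →* MulAut G)
  have horb : orbit D t = {y : G | orderOf y = 2 ∧ y ∈ H} := by
    ext y
    constructor
    · rintro ⟨d, rfl⟩
      show orderOf ((d : G) * t * (d : G)⁻¹) = 2 ∧ (d : G) * t * (d : G)⁻¹ ∈ H
      exact ⟨(orderOf_conj _ _).trans ht, mul_mem (mul_mem d.2.1 htH) (inv_mem d.2.1)⟩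
    · rintro ⟨hy, hyH⟩
      obtain ⟨d, hd, hdy⟩ := StronglyEmbedded.exists_conj_in_inter hH hu huH ht htH hy hyH
      exact ⟨⟨d, hd⟩, hdy⟩
  obtain ⟨n, hn⟩ := (isPGroup_inf hp3 h hH hsol hpair hZ huH).index (stabilizer D t)
  refine ⟨n, ?_⟩
  rw [← hn, index_stabilizer, horb]
  exact Nat.card_coe_set_eq _

include hp3 h hH hsol hpair hZ in
/-- `H` does not contain a Sylow `p`-subgroup. -/
theorem dvd_index : p ∣ H.index := by
  classical
  by_contra hpN
  set o : G ⧸ H := ((1 : G) : G ⧸ H)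
  obtain ⟨t, htH, ht⟩ := StronglyEmbedded.exists_involution_mem hH.2.1
  set s := Nat.card {t : G // orderOf t = 2 ∧ t ∈ H} with hs
  have hto : t • o = o := smul_one_coset_eq_iff.2 htH
  have hfix : ∀ x : G ⧸ H, t • x = x → x = o := fun x hx =>
    (StronglyEmbedded.existsUnique_fixed hH ht).unique hx hto
  have htt : ∀ x : G ⧸ H, t • t • x = x := fun x => by rw [smul_smul, inv_sq_one ht, one_smul]
  -- every `p`-element fixes a coset
  have hfixp : ∀ d : G, (∃ k, orderOf d = p ^ k) → ∃ x : G ⧸ H, d • x = x := by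
    rintro d ⟨k, hk⟩
    obtain ⟨Q⟩ := (inferInstance : Nonempty (Sylow p H))
    have hidx : ¬ p ∣ ((Q : Subgroup H).map H.subtype).index := by
      rw [index_map_subtype]
      exact fun hd => (hpF.out.dvd_mul.1 hd).elim Q.not_dvd_index hpN
    obtain ⟨P, hP⟩ := (IsPGroup.of_card (n := k) (by rw [Nat.card_zpowers, hk]) :
      IsPGroup p (zpowers d)).exists_le_sylow
    obtain ⟨g, hg⟩ := MulAction.exists_smul_eq G ((Q.2.map H.subtype).toSylow hidx) P
    have hd : d ∈ (P : Subgroup G) := hP (mem_zpowers d)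
    rw [← hg] at hd
    obtain ⟨y, ⟨y', -, hy'⟩, hyd⟩ := hd
    change g * y * g⁻¹ = d at hyd
    refine ⟨(g : G ⧸ H), ?_⟩
    show ((d * g : G) : G ⧸ H) = (g : G ⧸ H)
    rw [QuotientGroup.eq, ← hyd, show (g * y * g⁻¹ * g)⁻¹ * g = y⁻¹ by group, ← hy']
    exact inv_mem y'.2
  let X := {x : G ⧸ H // x ≠ o}
  let S : X → Type _ := fun x => {u : G // orderOf u = 2 ∧ u • (x : G ⧸ H) = t • (x : G ⧸ H)}
  let U := Σ y : X, {u : G // orderOf u = 2 ∧ u • o = (y : G ⧸ H)}
  let P := Σ x : X, {u : S x // u.1 ≠ t}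
  haveI : Finite X := inferInstance
  have hS : ∀ x : X, Nat.card (S x) = s := fun x =>
    StronglyEmbedded.card_swap hH _ _ (fun e => x.2 (hfix _ e.symm))
  have hU : Nat.card U = Nat.card X * s := by
    haveI := Fintype.ofFinite X
    rw [Nat.card_sigma, Finset.sum_congr rfl fun y _ => StronglyEmbedded.card_swap hH o _ (Ne.symm y.2),
      Finset.sum_const, Finset.card_univ, smul_eq_mul, ← Nat.card_eq_fintype_card]
  have hs1 : 0 < s := by
    haveI : Nonempty {t : G // orderOf t = 2 ∧ t ∈ H} := ⟨⟨t, ht, htH⟩⟩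
    exact Nat.card_pos
  have hP : Nat.card P = Nat.card X * (s - 1) := by
    haveI := Fintype.ofFinite X
    have h1 : ∀ x : X, Nat.card {u : S x // u.1 ≠ t} = s - 1 := fun x => by
      haveI := Fintype.ofFinite (S x)
      have htS : orderOf t = 2 ∧ t • (x : G ⧸ H) = t • (x : G ⧸ H) := ⟨ht, rfl⟩
      have h2 : Nat.card {u : S x // u.1 ≠ t} = Nat.card {u : S x // u ≠ ⟨t, htS⟩} :=
        Nat.card_congr (Equiv.subtypeEquivRight fun u =>
          not_congr ⟨fun e => Subtype.ext e, fun e => congrArg Subtype.val e⟩)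
      rw [h2, Nat.card_eq_fintype_card, Fintype.card_subtype_compl, Fintype.card_subtype_eq,
        ← Nat.card_eq_fintype_card, hS]
    rw [Nat.card_sigma, Finset.sum_congr rfl fun x _ => h1 x, Finset.sum_const, Finset.card_univ,
      smul_eq_mul, ← Nat.card_eq_fintype_card]
  -- an involution outside `H` agrees with `t` at two cosets
  have hsel : ∀ u : U, ∃ x : X, (u.2.1 • (x : G ⧸ H) = t • (x : G ⧸ H) ∧
      u.2.1 • (t • (x : G ⧸ H)) = (x : G ⧸ H)) := by
    rintro ⟨y, u, hu, huo⟩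
    have huH : u ∉ H := fun hu' => y.2 (huo ▸ smul_one_coset_eq_iff.2 hu')
    obtain ⟨x, hx⟩ := hfixp (t * u) (exists_pow_of_inverted (by omega) h ht
      (StronglyEmbedded.odd_orderOf_mul hH ht htH hu huH) (Basic.conj_prod_left ht hu))
    have h1 : u • x = t • x := by
      conv_rhs => rw [← hx, mul_smul, htt]
    refine ⟨⟨x, fun e => y.2 ?_⟩, h1, ?_⟩
    · exact huo.symm.trans ((congrArg (u • ·) e.symm).trans (h1.trans ((congrArg (t • ·) e).trans hto)))
    · show u • (t • x) = x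
      rw [← h1, smul_smul, inv_sq_one hu, one_smul]
  choose sel hsel1 hsel2 using hsel
  have hmove : ∀ x : X, t • (x : G ⧸ H) ≠ o := fun x e => x.2 (by rw [← htt x.1, e, hto])
  have hne : ∀ u : U, u.2.1 ≠ t := by
    rintro ⟨y, u, hu, huo⟩ rfl
    exact y.2 (huo ▸ hto)
  let f : U ⊕ U → P := Sum.elim
    (fun u => ⟨sel u, ⟨u.2.1, u.2.2.1, hsel1 u⟩, hne u⟩)
    (fun u => ⟨⟨t • ((sel u : X) : G ⧸ H), hmove _⟩,
      ⟨u.2.1, u.2.2.1, by rw [hsel2, htt]⟩, hne u⟩)
  have hext : ∀ u u' : U, u.2.1 = u'.2.1 → u = u' := by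
    rintro ⟨⟨y, hy⟩, u, hu, huo⟩ ⟨⟨y', hy'⟩, u', hu', huo'⟩ (rfl : u = u')
    obtain rfl : y = y' := huo.symm.trans huo'
    rfl
  have hinj : Function.Injective f := by
    have hcomp : ∀ a b, f a = f b → (((f a).1 : X) : G ⧸ H) = ((f b).1 : X) ∧
        (f a).2.1.1 = (f b).2.1.1 := fun a b e => by rw [e]; exact ⟨rfl, rfl⟩
    intro a b e
    obtain ⟨e1, e2⟩ := hcomp a b e
    rcases a with a | a <;> rcases b with b | b
    · rw [hext a b e2]
    · exfalso
      obtain rfl := hext a b e2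
      exact (sel a).2 (hfix _ e1.symm)
    · exfalso
      obtain rfl := hext a b e2
      exact (sel a).2 (hfix _ e1)
    · rw [hext a b e2]
  have hle := Nat.card_le_card_of_injective f hinj
  rw [Nat.card_sum, hU, hP] at hle
  have hX : 0 < Nat.card X := by
    obtain ⟨u, huH, -⟩ := StronglyEmbedded.exists_involution_notMem hH
    haveI : Nonempty X := ⟨⟨u • o, fun e => huH (smul_one_coset_eq_iff.1 e)⟩⟩
    exact Nat.card_pos
  have : Nat.card X * (s - 1) < Nat.card X * s := Nat.mul_lt_mul_of_pos_left (by omega) hX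
  omega

/-- In a solvable group without two commuting involutions the involutions number a power of `p`. -/
theorem exists_card_involutions_of_no_pair (hp2 : p ≠ 2) (h : Hyp p G) [Group.IsSolvable G]
    (hno : ∀ a b : G, ¬ Pair a b) (u : G) (hu : orderOf u = 2) :
    ∃ k, Nat.card {x : G // orderOf x = 2} = p ^ k := by
  haveI : Fact (Nat.Prime 2) := ⟨Nat.prime_two⟩
  obtain ⟨R, hR⟩ := (IsPGroup.of_card (n := 1) (by rw [Nat.card_zpowers, hu, pow_one]) :
    IsPGroup 2 (zpowers u)).exists_le_sylow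
  have huR : u ∈ (R : Subgroup G) := hR (mem_zpowers u)
  haveI : Nontrivial (R : Subgroup G) := (nontrivial_iff_ne_bot _).2 fun e =>
    Basic.ne_one hu (mem_bot.1 (e ▸ huR))
  haveI := R.2.center_nontrivial
  obtain ⟨k, hk⟩ := IsPGroup.iff_card.1 (R.2.to_subgroup (center (R : Subgroup G)))
  have hk0 : k ≠ 0 := by
    rintro rfl
    exact absurd (Finite.one_lt_card (α := center (R : Subgroup G))) (by rw [hk]; simp)
  obtain ⟨c, hc⟩ := exists_prime_orderOf_dvd_card' (G := center (R : Subgroup G)) 2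
    (hk ▸ dvd_pow_self 2 hk0)
  set z : G := ((c : (R : Subgroup G)) : G) with hz
  have hzo : orderOf z = 2 := (orderOf_coe _).trans ((orderOf_coe c).trans hc)
  have hzc : ∀ r ∈ (R : Subgroup G), Commute z r := fun r hr =>
    (congrArg Subtype.val (mem_center_iff.1 c.2 ⟨r, hr⟩)).symm
  obtain ⟨l, hl⟩ := index_centralizer_eq_pow hp2 h R (c : (R : Subgroup G)).2 hzc
  refine ⟨l, ?_⟩
  rw [← hl, ← ncard_conj_eq_index, ← Nat.card_coe_set_eq]
  refine Nat.card_congr (Equiv.subtypeEquivRight fun x => ?_)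
  constructor
  · intro hx
    obtain ⟨Q, hQ⟩ := (IsPGroup.of_card (n := 1) (by rw [Nat.card_zpowers, hx, pow_one]) :
      IsPGroup 2 (zpowers x)).exists_le_sylow
    obtain ⟨g, hg⟩ := MulAction.exists_smul_eq G R Q
    have hxQ : x ∈ (Q : Subgroup G) := hQ (mem_zpowers x)
    rw [← hg] at hxQ
    obtain ⟨y, hy, hyx⟩ := hxQ
    change g * y * g⁻¹ = x at hyx
    refine ⟨g, ?_⟩
    rw [← hyx]
    by_contra hne
    exact hno z y ⟨hzo, by rw [← orderOf_conj g y, hyx, hx], hzc y hy,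
      fun e => hne (congrArg (fun v => g * v * g⁻¹) e)⟩
  · rintro ⟨g, rfl⟩
    exact (orderOf_conj _ _).trans hzo

include hp3 h hH hsol hpair hZ in
theorem false_of_stronglyEmbedded (hN : ∀ P : Subgroup G, IsPGroup p P → P ≠ ⊥ →
    normalizer (P : Set G) ≠ ⊤) : False := by
  classical
  have hp2 : p ≠ 2 := by omega
  set o : G ⧸ H := ((1 : G) : G ⧸ H) with ho
  obtain ⟨a, ha⟩ := exists_card_involutions hp3 h hH hsol hpair hZ
  have hN0 : p ∣ Nat.card (G ⧸ H) := dvd_index hp3 h hH hsol hpair hZ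
  -- a second fixed coset of a Sylow `p`-subgroup of `H`
  obtain ⟨Q₀⟩ := (inferInstance : Nonempty (Sylow p H))
  set Q := (Q₀ : Subgroup H).map H.subtype with hQ
  have hQH : Q ≤ H := map_subtype_le _
  have hQp : IsPGroup p Q := Q₀.2.map _
  have hQmax : ∀ D : Subgroup G, IsPGroup p D → Q ≤ D → D ≤ H → D = Q := by
    intro D hD hle hDH
    have h1 : D.subgroupOf H = Q₀ := Q₀.3 (hD.comap_of_injective H.subtype H.subtype_injective)
      (fun x hx => hle ⟨x, hx, rfl⟩)
    rw [hQ, ← h1, subgroupOf_map_subtype, inf_of_le_left hDH]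
  have hoF : o ∈ fixedPoints Q (G ⧸ H) := fun q => smul_one_coset_eq_iff.2 (hQH q.2)
  have hF : p ∣ Nat.card (fixedPoints Q (G ⧸ H)) :=
    Nat.modEq_zero_iff_dvd.1 ((hQp.card_modEq_card_fixedPoints (G ⧸ H)).symm.trans
      (Nat.modEq_zero_iff_dvd.2 hN0))
  -- the stabilizer of a second fixed coset
  have hD : ∀ x ∈ fixedPoints Q (G ⧸ H), ∀ u : G, orderOf u = 2 → u • o = x → x ≠ o →
      H ⊓ H.map (MulAut.conj u).toMonoidHom = Q ∧ u ∈ normalizer (Q : Set G) := by
    intro x hx u hu hux hxo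
    have huH : u ∉ H := fun h => hxo (hux ▸ smul_one_coset_eq_iff.2 h)
    have hux' : (u : G ⧸ H) = x := by rw [← hux, ho, smul_one_coset]
    set D := H ⊓ H.map (MulAut.conj u).toMonoidHom
    have hDQ : D = Q := hQmax D (isPGroup_inf hp3 h hH hsol hpair hZ huH)
      (le_inf hQH fun q hq => mem_map_conj_iff.2 (by rw [hux']; exact hx ⟨q, hq⟩)) inf_le_left
    refine ⟨hDQ, hDQ ▸ ?_⟩
    have hui : u⁻¹ = u := inv_eq hu
    have key : ∀ d ∈ D, u * d * u⁻¹ ∈ D := by
      rintro d ⟨hdH, ⟨e, he, hed⟩⟩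
      change u * e * u⁻¹ = d at hed
      exact ⟨by
        rw [← hed, hui, show u * (u * e * u) * u = (u * u) * e * (u * u) by group, inv_sq_one hu,
          one_mul, mul_one]
        exact he, ⟨d, hdH, rfl⟩⟩
    refine mem_normalizer_iff.2 fun d => ⟨key d, fun hd => ?_⟩
    have := key _ hd
    rwa [hui, show u * (u * d * u) * u = (u * u) * d * (u * u) by group, inv_sq_one hu, one_mul,
      mul_one] at this
  obtain ⟨x₀, hx₀, hx₀o⟩ : ∃ x ∈ fixedPoints Q (G ⧸ H), x ≠ o := by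
    by_contra hc
    push Not at hc
    have : fixedPoints Q (G ⧸ H) = {o} := Set.eq_singleton_iff_unique_mem.2 ⟨hoF, hc⟩
    rw [this, Nat.card_coe_set_eq, Set.ncard_singleton] at hF
    exact hpF.out.ne_one (Nat.dvd_one.1 hF)
  obtain ⟨u₀, hu₀, hu₀H, hu₀x⟩ := exists_swap hH hx₀o
  obtain ⟨hQu₀, hu₀N⟩ := hD x₀ hx₀ u₀ hu₀ hu₀x hx₀o
  set N := normalizer (Q : Set G) with hNdef
  -- involutions normalizing `Q` fix no fixed coset of `Q`
  have hfree : ∀ w : G, orderOf w = 2 → w ∈ N → ∀ x ∈ fixedPoints Q (G ⧸ H), w • x ≠ x := by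
    intro w hw hwN x hx hwx
    by_cases hxo : x = o
    · exact notMem_normalizer hH hpair hu₀ hu₀H hw (smul_one_coset_eq_iff.1 (by rw [hxo] at hwx; exact hwx))
        (hQu₀.symm ▸ hwN)
    · obtain ⟨v, hv, hvH, hvx⟩ := exists_swap hH hxo
      obtain ⟨hQv, hvN⟩ := hD x hx v hv hvx hxo
      refine notMem_normalizer hH hpair hu₀ hu₀H (t := v⁻¹ * w * v) ?_ ?_ (hQu₀.symm ▸ ?_)
      · simpa using (orderOf_conj v⁻¹ w).trans hw
      · refine smul_one_coset_eq_iff.1 ?_
        show (v⁻¹ * w * v) • o = o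
        rw [mul_smul, mul_smul, hvx, hwx, ← hvx, inv_smul_smul]
      · exact mul_mem (mul_mem (inv_mem hvN) hwN) hvN
  -- its involutions
  have hQ1 : Q ≠ ⊥ := by
    intro e
    obtain ⟨t, htH, ht⟩ := StronglyEmbedded.exists_involution_mem hH.2.1
    exact notMem_normalizer hH hpair hu₀ hu₀H ht htH (by rw [hQu₀, e, normalizer_eq_top]; trivial)
  haveI hNs : Group.IsSolvable N := hsol N (hN Q hQp hQ1)
  have hmove : ∀ w : G, w ∈ N → ∀ x ∈ fixedPoints Q (G ⧸ H), w • x ∈ fixedPoints Q (G ⧸ H) := by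
    intro w hw x hx q
    have hq : w⁻¹ * (q : G) * w ∈ Q := (mem_normalizer_iff''.1 hw (q : G)).1 q.2
    have := hx ⟨_, hq⟩
    change (w⁻¹ * (q : G) * w) • x = x at this
    show (q : G) • w • x = w • x
    conv_rhs => rw [← this]
    rw [smul_smul, smul_smul]
    group
  have hno : ∀ a b : N, ¬ Pair a b := by
    intro a b hab
    have hab' := hab.map N.subtype N.subtype_injective
    obtain ⟨x, hax, hxu⟩ := StronglyEmbedded.existsUnique_fixed hH hab'.1
    obtain ⟨g, rfl⟩ := QuotientGroup.mk_surjective x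
    have hbx : (b : G) • (g : G ⧸ H) = (g : G ⧸ H) := hxu _ (by
      show (a : G) • (b : G) • (g : G ⧸ H) = _
      rw [smul_smul, show (a : G) * b = b * a from hab'.2.2.1.eq, ← smul_smul]
      exact congrArg _ hax)
    -- conjugate the normalizer into `H`
    set φ := (MulAut.conj g⁻¹).toMonoidHom
    have hconjH : ∀ y : G, y • (g : G ⧸ H) = (g : G ⧸ H) ↔ φ y ∈ H := by
      intro y
      show ((y * g : G) : G ⧸ H) = (g : G ⧸ H) ↔ g⁻¹ * y * (g⁻¹)⁻¹ ∈ H
      rw [QuotientGroup.eq, inv_inv, ← inv_mem_iff (x := g⁻¹ * y * g)]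
      simp [mul_assoc]
    haveI : Group.IsSolvable (N.map φ) := solvable_of_surjective (φ.subgroupMap_surjective N)
    have hle := le_of_pair hH (N.map φ) (hab'.map φ (MulAut.conj g⁻¹).injective)
      (mem_map_of_mem _ a.2) (mem_map_of_mem _ b.2) ((hconjH _).1 hax) ((hconjH _).1 hbx)
    exact hfree _ hab'.1 a.2 (g : G ⧸ H)
      (fun q => (hconjH q).2 (hle (mem_map_of_mem _ (le_normalizer q.2)))) hax
  obtain ⟨k, hk⟩ := exists_card_involutions_of_no_pair hp2 (h.subgroup N) hno ⟨u₀, hu₀N⟩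
    (by rw [orderOf_mk, hu₀])
  -- count them over the fixed cosets
  let X := {x : G ⧸ H // x ∈ fixedPoints Q (G ⧸ H) ∧ x ≠ o}
  let e : {w : N // orderOf w = 2} ≃ Σ x : X, {u : G // orderOf u = 2 ∧ u • o = (x : G ⧸ H)} :=
    { toFun := fun w => ⟨⟨(w.1 : G) • o, hmove _ w.1.2 o hoF,
        hfree _ (by rw [orderOf_coe]; exact w.2) w.1.2 o hoF⟩,
          (w.1 : G), by rw [orderOf_coe]; exact w.2, rfl⟩
      invFun := fun u => ⟨⟨u.2.1, (hD _ u.1.2.1 _ u.2.2.1 u.2.2.2 u.1.2.2).2⟩, by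
        rw [orderOf_mk]; exact u.2.2.1⟩
      left_inv := fun w => rfl
      right_inv := by
        rintro ⟨⟨x, hx⟩, u, hu, hux⟩
        obtain rfl : u • o = x := hux
        rfl }
  haveI := Fintype.ofFinite X
  have hcount := Nat.card_congr e
  rw [Nat.card_sigma, Finset.sum_congr rfl fun x _ => StronglyEmbedded.card_swap hH o _ (Ne.symm x.2.2),
    Finset.sum_const, Finset.card_univ, smul_eq_mul, hk, ha, ← Nat.card_eq_fintype_card] at hcount
  obtain ⟨c, -, hc⟩ := (Nat.dvd_prime_pow hpF.out).1 (Dvd.intro _ hcount.symm)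
  have hXF : Nat.card X + 1 = Nat.card (fixedPoints Q (G ⧸ H)) := by
    rw [Nat.card_coe_set_eq, ← Set.ncard_diff_singleton_add_one hoF (Set.toFinite _),
      ← Nat.card_coe_set_eq]
    rfl
  rw [← hXF, hc] at hF
  rcases c with _ | c
  · rw [pow_zero] at hF
    exact hp2 ((Nat.prime_dvd_prime_iff_eq hpF.out Nat.prime_two).1 hF)
  · exact hpF.out.ne_one (Nat.dvd_one.1 ((Nat.dvd_add_right (dvd_pow_self p c.succ_ne_zero)).1 hF))

end

end Cfsg.Agent.Coprime.OddInvariant.PPrimeNilpotent
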